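/-
The field with nine elements and the unitary group in two variables over it.
-/
import Cfsg.Agent.Lib.Chev.CT.Phan.Align

set_option autoImplicit false

namespace CfsgLib.Chev.CT.Phan

open Matrix Cfsg

universe u v

variable {F : Type u} [Field F]

namespace UF

section Twists

variable {q : ℕ} (U : UF F q)

theorem su2_eq {a b a' b' : F} {h : U.nm a + U.nm b = 1} {h' : U.nm a' + U.nm b' = 1}
    (ea : a = a') (eb : b = b') : U.su2 a b h = U.su2 a' b' h' := by subst ea; subst eb; rfl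

theorem su2_mul {a b c d : F} (h : U.nm a + U.nm b = 1) (h' : U.nm c + U.nm d = 1)
    (h'' : U.nm (a * c - U.σ b * d) + U.nm (b * c + U.σ a * d) = 1) :
    U.su2 a b h * U.su2 c d h' = U.su2 (a * c - U.σ b * d) (b * c + U.σ a * d) h'' := by
  refine Subtype.ext (Subtype.ext ?_)
  show (U.su2 a b h).1.1 * (U.su2 c d h').1.1 = _
  ext i j
  fin_cases i <;> fin_cases j <;> simp [su2_coe, Matrix.mul_apply, Fin.sum_univ_two, U.hσσ] <;> ring

theorem su2_mul_prop {a b c d : F} (h : U.nm a + U.nm b = 1) (h' : U.nm c + U.nm d = 1) :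
    U.nm (a * c - U.σ b * d) + U.nm (b * c + U.σ a * d) = 1 := by
  simp only [nm, map_sub, map_add, map_mul, U.hσσ] at h h' ⊢
  linear_combination h + (a * U.σ a + b * U.σ b) * h'

theorem su2_one (h : U.nm (1 : F) + U.nm 0 = 1) : U.su2 1 0 h = 1 := by
  refine Subtype.ext (Subtype.ext ?_)
  ext i j; fin_cases i <;> fin_cases j <;> simp [su2_coe]

/-- A twist of `SU 2` in coordinates. -/
theorem twist_su2 (τ : F ≃+* F) (d : Fin 2 → F) (hd : ∀ i, U.nm (d i) = 1) (a b : F)
    (h : U.nm a + U.nm b = 1) (h' : U.nm (τ a) + U.nm (d 1 / d 0 * τ b) = 1) :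
    twist U τ d hd (U.su2 a b h) = U.su2 (τ a) (d 1 / d 0 * τ b) h' := by
  have hd0 : ∀ i, d i ≠ 0 := fun i e => by simpa [e, UF.nm] using hd i
  have hστ : ∀ x, U.σ (τ x) = τ (U.σ x) := fun x => by rw [U.hσ, U.hσ, map_pow]
  have hσd : ∀ i, U.σ (d i) = (d i)⁻¹ := fun i => eq_inv_of_mul_eq_one_right (hd i)
  refine Subtype.ext (Subtype.ext (Matrix.ext fun i j => ?_))
  rw [twist_coe, su2_coe, su2_coe]
  fin_cases i <;> fin_cases j <;> simp [map_mul, map_div₀, hσd, hστ] <;>
    (have := hd0 0; have := hd0 1; field_simp)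

/-- A twist respects the windows. -/
theorem twist_embSU {m N : ℕ} (o : ℕ) (ho : o + m ≤ N) (τ : F ≃+* F) (d : Fin N → F)
    (hd : ∀ i, U.nm (d i) = 1) (e : Fin m → F) (he : ∀ i, U.nm (e i) = 1) (c : F) (hc : c ≠ 0)
    (hde : ∀ i : Fin m, d ⟨o + i, by omega⟩ = c * e i) (A : SU m F q) :
    twist U τ d hd (embSU o ho U A) = embSU o ho U (twist U τ e he A) := by
  have hd0 : ∀ i, d i ≠ 0 := fun i h => by simpa [h, UF.nm] using hd i
  refine Subtype.ext (Subtype.ext (Matrix.ext fun i j => ?_))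
  rw [twist_coe]
  show d i * τ (embMat o ho A.1.1 i j) * (d j)⁻¹ = embMat o ho (twist U τ e he A).1.1 i j
  obtain ⟨s, rfl⟩ := (winEquiv (m := m) o ho).surjective i
  obtain ⟨t, rfl⟩ := (winEquiv (m := m) o ho).surjective j
  simp only [embMat, submatrix_apply, Equiv.symm_apply_apply]
  rcases s with s | s <;> rcases t with t | t
  · rw [fromBlocks_apply₁₁, fromBlocks_apply₁₁, twist_coe,
      show d (winEquiv o ho (Sum.inl s)) = c * e s from hde s,
      show d (winEquiv o ho (Sum.inl t)) = c * e t from hde t]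
    field_simp
  · simp
  · simp
  · by_cases est : s = t
    · subst est; simp [hd0]
    · simp [Matrix.one_apply_ne est]

/-- A subgroup containing both blocks of `SU 3` is everything. -/
theorem blocks_gen (hα : ∃ α, U.nm α ≠ 0 ∧ U.nm α ≠ 1) (P : Subgroup (SU 3 F q))
    (h0 : ∀ A : SU 2 F q, embSU 0 (by norm_num) U A ∈ P) (h1 : ∀ A : SU 2 F q, embSU 1 (by norm_num) U A ∈ P) : P = ⊤ := by
  refine eq_top_iff.2 fun g _ => ?_
  let D : Dat U 3 PUnit.{1} :=
    { φ := fun _ => 1, ψ := fun _ => 1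
      h0 := fun _ _ _ => rfl
      h1 := fun _ _ _ => rfl
      hcomm := fun _ _ _ _ _ _ => rfl }
  have hg : g ∈ (embSU (N := 3) (m := 3) 0 le_rfl U).range :=
    mem_range_embSU 0 le_rfl U fun k hk hk' => absurd hk' (by omega)
  obtain ⟨A, hA⟩ := hg
  have := D.LV_le hα le_rfl ((D.mem_LV (l := 0) le_rfl).2 ⟨A, rfl⟩)
  have hle : D.LS 0 ⊔ D.LS (0 + 1) ≤ P.comap (MonoidHom.fst (SU 3 F q) PUnit.{1}) := by
    refine sup_le ?_ ?_
    · intro z hz
      obtain ⟨B, rfl⟩ := (D.mem_LS (by norm_num)).1 hz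
      exact h0 B
    · intro z hz
      obtain ⟨B, rfl⟩ := (D.mem_LS (by norm_num)).1 hz
      exact h1 B
  simpa [hA] using hle this

end Twists

section Nine

variable [Fintype F] (U : UF F 3) (hF : Fintype.card F = 9)
include hF

theorem three_eq_zero : (3 : F) = 0 := by
  have := Nat.cast_card_eq_zero F
  rw [hF, show ((9 : ℕ) : F) = (3 : F) ^ 2 by norm_num] at this
  exact (pow_eq_zero_iff (by norm_num)).1 this

theorem neg_one_ne_one : (-1 : F) ≠ 1 := fun e =>
  one_ne_zero (α := F) (by linear_combination (three_eq_zero hF) + e)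

theorem two_ne : (2 : F) ≠ 0 := fun e =>
  one_ne_zero (α := F) (by linear_combination (three_eq_zero hF) - e)

theorem eq_one_of_cube {c : F} (h : c ^ 3 = 1) : c = 1 := by
  refine sub_eq_zero.1 ((pow_eq_zero_iff (n := 3) (by norm_num)).1 ?_)
  linear_combination h + (c - c ^ 2) * three_eq_zero hF

omit hF in
theorem fix_cases {x : F} (h : U.σ x = x) : x = 0 ∨ x = 1 ∨ x = -1 := by
  rw [U.hσ] at h
  rcases mul_eq_zero.1 (show x * ((x - 1) * (x + 1)) = 0 by linear_combination h) with h | h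
  · exact Or.inl h
  · rcases mul_eq_zero.1 h with h | h
    · exact Or.inr (Or.inl (sub_eq_zero.1 h))
    · exact Or.inr (Or.inr (eq_neg_of_add_eq_zero_left h))

omit hF in
theorem pow_four_of_nm {c : F} (h : U.nm c = 1) : c ^ 4 = 1 := by
  rw [nm, U.hσ] at h; linear_combination h

omit hF in
theorem exists_sq_neg_one : ∃ i : F, i * i = -1 ∧ U.σ i = -i ∧ U.nm i = 1 := by
  obtain ⟨l, hl, hl2⟩ := U.exists_rot
  have h4 := U.pow_four_of_nm (c := l) hl
  have hsq : l * l = -1 := by
    rcases mul_eq_zero.1 (show (l * l - 1) * (l * l + 1) = 0 by linear_combination h4) with h | h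
    · exact absurd (sub_eq_zero.1 h) hl2
    · exact eq_neg_of_add_eq_zero_left h
  exact ⟨l, hsq, by rw [U.hσ]; linear_combination l * hsq, hl⟩

omit hF in
theorem norm_one_cases {i c : F} (hi : i * i = -1) (h : U.nm c = 1) :
    c = 1 ∨ c = -1 ∨ c = i ∨ c = -i := by
  have h4 := U.pow_four_of_nm h
  rcases mul_eq_zero.1 (show ((c - 1) * (c + 1)) * ((c - i) * (c + i)) = 0 by
    linear_combination h4 - (c * c - 1) * hi) with h | h <;> rcases mul_eq_zero.1 h with h | h
  · exact Or.inl (sub_eq_zero.1 h)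
  · exact Or.inr (Or.inl (eq_neg_of_add_eq_zero_left h))
  · exact Or.inr (Or.inr (Or.inl (sub_eq_zero.1 h)))
  · exact Or.inr (Or.inr (Or.inr (eq_neg_of_add_eq_zero_left h)))

theorem exists_alpha_three : ∃ α, U.nm α ≠ 0 ∧ U.nm α ≠ 1 := by
  obtain ⟨i, hi, hσi, -⟩ := U.exists_sq_neg_one
  have : U.nm (1 + i) = -1 := by
    rw [nm, map_add, map_one, hσi]; linear_combination -hi + three_eq_zero hF
  exact ⟨1 + i, by rw [this]; exact neg_ne_zero.2 one_ne_zero, by rw [this]; exact neg_one_ne_one hF⟩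

/-- Two field automorphisms agreeing on a square root of minus one agree. -/
theorem aut_ext {i : F} (hi : i * i = -1) (hσi : U.σ i = -i) (τ τ' : F ≃+* F) (h : τ i = τ' i) :
    τ = τ' := by
  refine RingEquiv.ext fun x => ?_
  have hfix : ∀ y, U.σ y = y → τ y = τ' y := fun y hy => by
    rcases U.fix_cases hy with rfl | rfl | rfl <;> simp
  have e : x = -(x + U.σ x) + ((x - U.σ x) * i) * i := by
    linear_combination x * three_eq_zero hF - (x - U.σ x) * hi
  rw [e, map_add, map_add, map_mul τ ((x - U.σ x) * i), map_mul τ' ((x - U.σ x) * i),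
    hfix (-(x + U.σ x)) (by rw [map_neg, map_add, U.hσσ, add_comm]),
    hfix ((x - U.σ x) * i) (by rw [map_mul, map_sub, U.hσσ, hσi]; ring), h]

include U in
/-- The unitary group in two variables is generated by elements of order three. -/
theorem gen_cubes (P : Subgroup (SU 2 F 3)) (h : ∀ a : SU 2 F 3, a ^ 3 = 1 → a ∈ P) : P = ⊤ := by
  obtain ⟨i, hi, hσi, hni⟩ := U.exists_sq_neg_one
  have h3 := three_eq_zero hF
  have n10 : U.nm (1 : F) + U.nm 0 = 1 := by rw [U.nm_one, U.nm_zero, add_zero]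
  have hcube : ∀ (a b : F) (hab : U.nm a + U.nm b = 1), a + U.σ a = -1 → U.su2 a b hab ^ 3 = 1 := by
    intro a b hab ht
    have p2 := U.su2_mul_prop hab hab
    rw [pow_succ, pow_two, U.su2_mul hab hab p2, U.su2_mul p2 hab (U.su2_mul_prop p2 hab), ← U.su2_one n10]
    refine U.su2_eq ?_ ?_
    · simp only [nm] at hab
      simp only [map_add, map_mul, U.hσσ]
      linear_combination (-a - (a + U.σ a)) * hab + (a * (a + U.σ a) - a - 1) * ht
    · simp only [nm] at hab
      simp only [map_sub, map_mul, U.hσσ]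
      linear_combination -b * hab + b * ((a + U.σ a) - 1) * ht
  have hn0 : U.nm i + U.nm 0 = 1 := by rw [hni, U.nm_zero, add_zero]
  have hn1 : U.nm (0 : F) + U.nm 1 = 1 := by rw [U.nm_zero, U.nm_one, zero_add]
  set x := U.su2 i 0 hn0
  set y := U.su2 0 1 hn1
  have hu : U.nm (1 + i) + U.nm (1 - i) = 1 := by
    simp only [nm, map_add, map_sub, map_one, hσi]; linear_combination -2 * hi + h3
  set u := U.su2 (1 + i) (1 - i) hu
  have huP : u ∈ P := h u (hcube _ _ hu (by rw [map_add, map_one, hσi]; linear_combination h3))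
  have hv : U.nm (1 + i) + U.nm (-(1 - i)) = 1 := by rw [U.nm_neg]; exact hu
  have hvP : U.su2 (1 + i) (-(1 - i)) hv ∈ P :=
    h _ (hcube _ _ hv (by rw [map_add, map_one, hσi]; linear_combination h3))
  set v := U.su2 (1 + i) (-(1 - i)) hv
  have hxu : x * u = v * x := by
    rw [U.su2_mul hn0 hu (U.su2_mul_prop hn0 hu), U.su2_mul hv hn0 (U.su2_mul_prop hv hn0)]
    refine U.su2_eq ?_ ?_ <;> simp [hσi] <;> ring
  have hux : u * x = y * u := by
    rw [U.su2_mul hu hn0 (U.su2_mul_prop hu hn0), U.su2_mul hn1 hu (U.su2_mul_prop hn1 hu)]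
    refine U.su2_eq ?_ ?_ <;> simp [hσi]
    · linear_combination hi
    · linear_combination -hi
  have huy : u * y = x * y * u := by
    have p := U.su2_mul_prop hn0 hn1
    rw [U.su2_mul hu hn1 (U.su2_mul_prop hu hn1), U.su2_mul hn0 hn1 p,
      U.su2_mul p hu (U.su2_mul_prop p hu)]
    refine U.su2_eq ?_ ?_ <;> simp [hσi]
    · linear_combination -hi
    · linear_combination hi
  have hxy : x * y⁻¹ ∈ P := by
    have e : x * y⁻¹ = v * u⁻¹ := by
      calc x * y⁻¹ = x * (u * x * u⁻¹)⁻¹ := by rw [hux]; group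
        _ = x * u * x⁻¹ * u⁻¹ := by group
        _ = v * u⁻¹ := by rw [hxu]; group
    rw [e]; exact mul_mem hvP (inv_mem huP)
  have hxP : x ∈ P := by
    have e : u * (x * y⁻¹) * u⁻¹ = x⁻¹ := by
      calc u * (x * y⁻¹) * u⁻¹ = u * x * u⁻¹ * (u * y * u⁻¹)⁻¹ := by group
        _ = x⁻¹ := by rw [hux, huy]; group
    have := mul_mem (mul_mem huP hxy) (inv_mem huP)
    rw [e] at this; simpa using inv_mem this
  have hyP : y ∈ P := by
    have := mul_mem (inv_mem hxy) hxP
    simpa using this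
  refine eq_top_iff.2 fun A _ => ?_
  obtain ⟨a, b, hab, rfl⟩ := U.su2_surj A
  have hdiag : ∀ (c : F) (hc : U.nm c + U.nm 0 = 1), U.su2 c 0 hc ∈ P := by
    intro c hc
    have hx2 : ∀ {c d : F} (hc : U.nm c + U.nm 0 = 1) (hd : U.nm d + U.nm 0 = 1)
        (hcd : U.nm (c * d) + U.nm 0 = 1), U.su2 c 0 hc * U.su2 d 0 hd = U.su2 (c * d) 0 hcd := by
      intro c d hc hd hcd
      rw [U.su2_mul hc hd (U.su2_mul_prop hc hd)]
      exact U.su2_eq (by simp) (by simp)
    rcases U.norm_one_cases hi (c := c) (by rwa [U.nm_zero, add_zero] at hc) with rfl | rfl | rfl | rfl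
    · rw [U.su2_one]; exact one_mem _
    · have hm : U.nm (i * i) + U.nm 0 = 1 := by rw [U.nm_mul, hni, one_mul, U.nm_zero, add_zero]
      rw [U.su2_eq (h' := hm) hi.symm rfl, ← hx2 hn0 hn0 hm]; exact mul_mem hxP hxP
    · exact hxP
    · have hm : U.nm (i * i) + U.nm 0 = 1 := by rw [U.nm_mul, hni, one_mul, U.nm_zero, add_zero]
      have hm' : U.nm (i * i * i) + U.nm 0 = 1 := by
        rw [U.nm_mul, U.nm_mul, hni, one_mul, one_mul, U.nm_zero, add_zero]
      rw [U.su2_eq (h' := hm') (by rw [hi]; ring) rfl, ← hx2 hm hn0 hm', ← hx2 hn0 hn0 hm]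
      exact mul_mem (mul_mem hxP hxP) hxP
  by_cases hb : b = 0
  · subst hb; exact hdiag a hab
  by_cases ha : a = 0
  · subst ha
    have hb1 : U.nm b = 1 := by rwa [U.nm_zero, zero_add] at hab
    have hc : U.nm (U.σ b) + U.nm 0 = 1 := by rw [U.nm_sigma, hb1, U.nm_zero, add_zero]
    have e : U.su2 0 b hab = U.su2 (U.σ b) 0 hc * y := by
      rw [U.su2_mul hc hn1 (U.su2_mul_prop hc hn1)]
      exact U.su2_eq (by simp) (by simp [U.hσσ])
    rw [e]; exact mul_mem (hdiag _ hc) hyP
  have htr : U.σ (a + U.σ a) = a + U.σ a := by rw [map_add, U.hσσ, add_comm]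
  rcases U.fix_cases htr with ht | ht | ht
  · exfalso
    have hna : U.nm a = -1 := by
      rcases U.fix_cases (U.nm_fix a) with e | e | e
      · exact absurd (U.nm_eq_zero.1 e) ha
      · exact absurd (U.nm_eq_zero.1 (show U.nm b = 0 by linear_combination hab - e)) hb
      · exact e
    have haσ : U.σ a = -a := eq_neg_of_add_eq_zero_right ht
    have ha2 : a * a = 1 := by rw [nm, haσ] at hna; linear_combination -hna
    rcases mul_self_eq_one_iff.1 ha2 with rfl | rfl <;> simp at haσ <;>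
      first | exact neg_one_ne_one hF haσ | exact neg_one_ne_one hF haσ.symm
  · have hm : U.nm (-a) + U.nm (-b) = 1 := by rw [U.nm_neg, U.nm_neg]; exact hab
    have h1 : U.nm (-1 : F) + U.nm 0 = 1 := by rw [U.nm_neg, U.nm_one, U.nm_zero, add_zero]
    have e : U.su2 a b hab = U.su2 (-1) 0 h1 * U.su2 (-a) (-b) hm := by
      rw [U.su2_mul h1 hm (U.su2_mul_prop h1 hm)]
      exact U.su2_eq (by simp) (by simp)
    rw [e]
    exact mul_mem (hdiag _ h1) (h _ (hcube _ _ hm (by rw [map_neg]; linear_combination -ht)))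
  · exact h _ (hcube _ _ hab ht)

include U in
/-- An automorphism preserving the diagonal torus is diagonal times a field automorphism. -/
theorem aut_torus_three (β : SU 2 F 3 ≃* SU 2 F 3)
    (hT : ∀ A : SU 2 F 3, A.1.1 1 0 = 0 → (β A).1.1 1 0 = 0) :
    ∃ (τ : F ≃+* F) (ν : F), U.nm ν = 1 ∧ ∀ A : SU 2 F 3,
      (β A).1.1 0 0 = τ (A.1.1 0 0) ∧ (β A).1.1 1 0 = ν * τ (A.1.1 1 0) := by
  obtain ⟨i, hi, hσi, hni⟩ := U.exists_sq_neg_one
  have h3 := three_eq_zero hF
  have hn0 : U.nm i + U.nm 0 = 1 := by rw [hni, U.nm_zero, add_zero]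
  have hm1 : U.nm (-1 : F) + U.nm 0 = 1 := by rw [U.nm_neg, U.nm_one, U.nm_zero, add_zero]
  have n10 : U.nm (1 : F) + U.nm 0 = 1 := by rw [U.nm_one, U.nm_zero, add_zero]
  set x := U.su2 i 0 hn0
  have hxx : x * x = U.su2 (-1) 0 hm1 := by
    rw [U.su2_mul hn0 hn0 (U.su2_mul_prop hn0 hn0)]
    exact U.su2_eq (by simp [hi]) (by simp)
  have hne : U.su2 (-1) 0 hm1 ≠ 1 := fun e => neg_one_ne_one hF (U.su2_inj (e.trans (U.su2_one n10).symm)).1
  obtain ⟨j, j', hj, ej⟩ := U.su2_surj (β x)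
  have hj' : j' = 0 := by
    have := hT x (by simp [x, su2_coe])
    rw [ej] at this; simpa [su2_coe] using this
  subst hj'
  have hjn : U.nm j = 1 := by rwa [U.nm_zero, add_zero] at hj
  have hjj : j * j = -1 := by
    rcases U.norm_one_cases hi hjn with rfl | rfl | rfl | rfl
    · refine absurd (β.injective ?_) hne
      rw [← hxx, map_mul, ej, map_one, U.su2_one, one_mul]
    · refine absurd (β.injective ?_) hne
      rw [← hxx, map_mul, ej, map_one, U.su2_mul hj hj (U.su2_mul_prop hj hj), ← U.su2_one n10]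
      exact U.su2_eq (by simp) (by simp)
    · exact hi
    · linear_combination hi
  have hβm : β (U.su2 (-1) 0 hm1) = U.su2 (-1) 0 hm1 := by
    rw [← hxx, map_mul, ej, hxx, U.su2_mul hj hj (U.su2_mul_prop hj hj)]
    exact U.su2_eq (by simp [hjj]) (by simp)
  obtain ⟨τ, hτi⟩ : ∃ τ : F ≃+* F, τ i = j := by
    rcases U.norm_one_cases hi hjn with e | e | e | e
    · exact absurd hjj (by rw [e, one_mul]; exact (neg_one_ne_one hF).symm)
    · exact absurd hjj (by rw [e, neg_one_mul, neg_neg]; exact (neg_one_ne_one hF).symm)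
    · exact ⟨RingEquiv.refl F, by simp [e]⟩
    · exact ⟨RingEquiv.ofBijective U.σ ⟨U.σ.injective, fun x => ⟨U.σ x, U.hσσ x⟩⟩, by
        show U.σ i = j
        rw [hσi, e]⟩
  have hτfix : ∀ y, U.σ y = y → τ y = y := fun y hy => by
    rcases U.fix_cases hy with rfl | rfl | rfl <;> simp
  have htr : ∀ a, U.σ (a + U.σ a) = a + U.σ a := fun a => by rw [map_add, U.hσσ, add_comm]
  have hsq : ∀ (a b : F) (h : U.nm a + U.nm b = 1),
      a + U.σ a = 0 ↔ U.su2 a b h * U.su2 a b h = U.su2 (-1) 0 hm1 := by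
    intro a b h
    rw [U.su2_mul h h (U.su2_mul_prop h h)]
    constructor
    · intro ht
      refine U.su2_eq ?_ ?_
      · simp only [nm] at h; linear_combination -h + a * ht
      · linear_combination b * ht
    · intro e
      obtain ⟨e0, e1⟩ := U.su2_inj e
      simp only [nm] at h
      by_contra ht
      have hb : b = 0 := (mul_eq_zero.1 (show b * (a + U.σ a) = 0 by linear_combination e1)).resolve_right ht
      have ha : a = 0 := (mul_eq_zero.1 (show a * (a + U.σ a) = 0 by linear_combination e0 + h)).resolve_right ht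
      rw [ha, hb] at h; simp at h
  have hcube : ∀ (a b : F) (h : U.nm a + U.nm b = 1), a + U.σ a ≠ 0 →
      ∀ (hc : U.nm (-(a + U.σ a)) + U.nm 0 = 1),
        U.su2 a b h * U.su2 a b h * U.su2 a b h = U.su2 (-(a + U.σ a)) 0 hc := by
    intro a b h ht hc
    have ht2 : (a + U.σ a) * (a + U.σ a) = 1 := by
      rcases U.fix_cases (htr a) with e | e | e
      · exact absurd e ht
      · rw [e, one_mul]
      · rw [e, neg_mul_neg, one_mul]
    have p := U.su2_mul_prop h h
    rw [U.su2_mul h h p, U.su2_mul p h (U.su2_mul_prop p h)]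
    simp only [nm] at h
    refine U.su2_eq ?_ ?_
    · simp only [map_add, map_mul, U.hσσ]
      linear_combination (-a - (a + U.σ a)) * h + a * ht2
    · simp only [map_sub, map_mul, U.hσσ]
      linear_combination -b * h + b * ht2
  have htrace : ∀ (a b a' b' : F) (h : U.nm a + U.nm b = 1) (h' : U.nm a' + U.nm b' = 1),
      β (U.su2 a b h) = U.su2 a' b' h' → a' + U.σ a' = a + U.σ a := by
    intro a b a' b' h h' e
    have h0 : a + U.σ a = 0 ↔ a' + U.σ a' = 0 := by
      rw [hsq a b h, hsq a' b' h', ← β.injective.eq_iff, map_mul, e, hβm]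
    by_cases ht : a + U.σ a = 0
    · rw [ht, h0.1 ht]
    have ht' : a' + U.σ a' ≠ 0 := fun e' => ht (h0.2 e')
    have nt : ∀ t : F, U.σ t = t → t ≠ 0 → U.nm (-t) + U.nm 0 = 1 := fun t hf h0 => by
      rw [U.nm_zero, add_zero, U.nm_neg, nm, hf]
      rcases U.fix_cases hf with rfl | rfl | rfl
      · exact absurd rfl h0
      · rw [one_mul]
      · rw [neg_mul_neg, one_mul]
    have e1 := congrArg β (hcube a b h ht (nt _ (htr a) ht))
    rw [map_mul, map_mul, e, hcube a' b' h' ht' (nt _ (htr a') ht')] at e1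
    rcases U.fix_cases (htr a) with et | et | et
    · exact absurd et ht
    · rw [U.su2_eq (a := -(a + U.σ a)) (h' := hm1) (by rw [et]) rfl, hβm] at e1
      rw [et]; exact neg_inj.1 (U.su2_inj e1).1
    · rw [U.su2_eq (a := -(a + U.σ a)) (h' := n10) (by rw [et, neg_neg]) rfl, U.su2_one n10, map_one,
        ← U.su2_one n10] at e1
      rw [et, ← (U.su2_inj e1).1, neg_neg]
  have hfirst : ∀ (a b a' b' : F) (h : U.nm a + U.nm b = 1) (h' : U.nm a' + U.nm b' = 1),
      β (U.su2 a b h) = U.su2 a' b' h' → a' = τ a := by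
    intro a b a' b' h h' e
    have k1 := htrace a b a' b' h h' e
    have k2 := htrace _ _ _ _ (U.su2_mul_prop hn0 h) (U.su2_mul_prop hj h') (by
      rw [← U.su2_mul hn0 h, map_mul, ej, e, U.su2_mul hj h'])
    simp only [map_zero, zero_mul, sub_zero, map_mul] at k2
    have t1 : τ a + U.σ (τ a) = a + U.σ a := by
      rw [U.hσ (τ a), ← map_pow, ← U.hσ, ← map_add, hτfix _ (htr a)]
    have t2 : j * τ a + U.σ j * U.σ (τ a) = i * a + U.σ i * U.σ a := by
      rw [← map_mul U.σ j, ← hτi, ← map_mul τ, U.hσ (τ (i * a)), ← map_pow, ← U.hσ, ← map_add,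
        hτfix _ (htr (i * a)), map_mul]
    have hσj : U.σ j = -j := by
      have hj0 : j ≠ 0 := fun e0 => by rw [e0, U.nm_zero] at hjn; exact zero_ne_one hjn
      refine mul_left_cancel₀ hj0 ?_
      simp only [nm] at hjn; linear_combination hjn + hjj
    rw [hσj] at k2 t2
    have hj0 : j ≠ 0 := fun e0 => by rw [e0, U.nm_zero] at hjn; exact zero_ne_one hjn
    exact sub_eq_zero.1 ((mul_eq_zero.1 (show (2 * j) * (a' - τ a) = 0 by
      linear_combination j * k1 - j * t1 + k2 - t2)).resolve_left (mul_ne_zero (two_ne hF) hj0))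
  have hn1 : U.nm (0 : F) + U.nm 1 = 1 := by rw [U.nm_zero, U.nm_one, zero_add]
  obtain ⟨y0, ν, hy, ey⟩ := U.su2_surj (β (U.su2 0 1 hn1))
  have hy0 : y0 = 0 := by rw [hfirst _ _ _ _ hn1 hy ey, map_zero]
  subst hy0
  have hν : U.nm ν = 1 := by rwa [U.nm_zero, zero_add] at hy
  refine ⟨τ, ν, hν, fun A => ?_⟩
  obtain ⟨a, b, h, rfl⟩ := U.su2_surj A
  obtain ⟨a', b', h', e⟩ := U.su2_surj (β (U.su2 a b h))
  have k := hfirst _ _ _ _ (U.su2_mul_prop hn1 h) (U.su2_mul_prop hy h') (by
    rw [← U.su2_mul hn1 h, map_mul, ey, e, U.su2_mul hy h'])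
  simp only [map_one, zero_mul, one_mul, zero_sub, map_neg, neg_inj] at k
  rw [e]
  simp only [su2_coe]
  refine ⟨by simpa using hfirst _ _ _ _ h h' e, ?_⟩
  simp only [nm] at hν
  simp
  linear_combination ν * k - b' * hν

end Nine

end UF

end CfsgLib.Chev.CT.Phan
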