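/-
Scalars and commuting involutions of the unitary group in four variables over nine elements.
-/
import Cfsg.Agent.Lib.Chev.CT.Phan.Three.Base
import Cfsg.Agent.Lib.Classical.HermOrder
import Mathlib.LinearAlgebra.Trace
import Mathlib.LinearAlgebra.Determinant

set_option autoImplicit false

namespace CfsgLib.Chev.CT.Phan

open Matrix Cfsg

universe u v

variable {F : Type u} [Field F]

/-- Scalar elements of `SU 4`. -/
def IsSc (z : SU 4 F 3) : Prop := ∃ c : F, c ^ 4 = 1 ∧ ∀ v, act z v = c • v

namespace IsSc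

variable {z z' : SU 4 F 3}

theorem one : IsSc (1 : SU 4 F 3) := ⟨1, one_pow 4, fun v => by rw [act_one, one_smul]⟩

theorem comm (h : IsSc z) (w : SU 4 F 3) : z * w = w * z := by
  obtain ⟨c, -, hc⟩ := h
  exact su_ext fun k _ => by rw [act_mul, act_mul, hc, hc, act_smul]

theorem pow_four (h : IsSc z) : z ^ 4 = 1 := by
  obtain ⟨c, h4, hc⟩ := h
  refine su_ext fun k _ => ?_
  have : ∀ (n : ℕ) v, act (z ^ n) v = c ^ n • v := by
    intro n
    induction n with
    | zero => simp
    | succ n ih => intro v; rw [pow_succ, act_mul, hc, act_smul, ih, smul_smul, ← pow_succ']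
  rw [this, h4, one_smul, act_one]

theorem eq_one_of_cube (h : IsSc z) (h3 : z ^ 3 = 1) : z = 1 := by
  have := h.pow_four
  rwa [pow_succ, h3, one_mul] at this

theorem eq_one_of_fix (h : IsSc z) {v : Fin 4 → F} (hv : v ≠ 0) (hfix : act z v = v) : z = 1 := by
  obtain ⟨c, -, hc⟩ := h
  have : c = 1 := smul_left_injective F hv (by simpa [hc] using hfix)
  exact su_ext fun k _ => by rw [hc, this, one_smul, act_one]

theorem mul (h : IsSc z) (h' : IsSc z') : IsSc (z * z') := by
  obtain ⟨c, h4, hc⟩ := h
  obtain ⟨d, h4', hd⟩ := h'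
  exact ⟨c * d, by rw [mul_pow, h4, h4', one_mul],
    fun v => by rw [act_mul, hd, act_smul, hc, smul_smul, mul_comm]⟩

end IsSc

namespace UF

variable [Fintype F] (U : UF F 3) (hF : Fintype.card F = 9)
include hF

theorem isSc_of_center {z : SU 4 F 3} (hz : z ∈ Subgroup.center (SU 4 F 3)) : IsSc z := by
  have h : z.1.1 = scalar (Fin 4) (z.1.1 ⟨0, by norm_num⟩ ⟨0, by norm_num⟩) :=
    CfsgLib.Classical.eq_scalar_of_commute (q := 3) (by rw [hF]; norm_num) (by norm_num) _ fun s =>
      congrArg (fun x : SU 4 F 3 => x.1.1) (Subgroup.mem_center_iff.1 hz s)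
  set c := z.1.1 ⟨0, by norm_num⟩ ⟨0, by norm_num⟩
  refine ⟨c, ?_, fun v => ?_⟩
  · have hd : z.1.1.det = 1 := z.1.2
    rw [h] at hd
    simpa using hd
  · show z.1.1 *ᵥ v = c • v
    rw [h]
    funext r
    simp [mulVec_diagonal]

/-- The trace of a non-scalar involution vanishes. -/
theorem trace_involution {t : SU 4 F 3} (ht : t * t = 1) (hns : ¬ IsSc t) : t.1.1.trace = 0 := by
  have h3 := three_eq_zero hF
  set Q : Matrix (Fin 4) (Fin 4) F := -(1 + t.1.1) with hQdef
  set f := Matrix.toLin' Q with hfdef
  have hQ : Q * Q = Q := by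
    have h : t.1.1 * t.1.1 = 1 := congrArg (fun x : SU 4 F 3 => x.1.1) ht
    have : Q * Q = (2 : F) • (1 + t.1.1) := by
      rw [hQdef, neg_mul_neg, add_mul, one_mul, mul_add, mul_one, h]; module
    rw [this, hQdef, ← neg_one_smul F (1 + t.1.1)]
    congr 1
    linear_combination h3
  have hf : LinearMap.IsProj (LinearMap.range f) f := by
    refine (LinearMap.isProj_range_iff_isIdempotentElem f).2 ?_
    show f * f = f
    rw [hfdef, Module.End.mul_eq_comp, ← Matrix.toLin'_mul, hQ]
  set r := Module.finrank F (LinearMap.range f) with hr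
  have hr4 : r ≤ 4 := (Submodule.finrank_le _).trans (by simp)
  have htr : Q.trace = (r : F) := by
    rw [← Matrix.trace_toLin'_eq, ← hfdef, hf.trace]
  have hne0 : r ≠ 0 := by
    intro e
    have h0 : LinearMap.range f = ⊥ := Submodule.finrank_eq_zero.1 e
    have hQ0 : Q = 0 := by
      refine Matrix.toLin'.injective ?_
      rw [← hfdef, map_zero]; exact LinearMap.range_eq_bot.1 h0
    refine hns ⟨-1, by norm_num, fun v => ?_⟩
    show t.1.1 *ᵥ v = _
    rw [show t.1.1 = -1 by rw [hQdef, neg_eq_zero] at hQ0; exact eq_neg_of_add_eq_zero_right hQ0]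
    simp [neg_mulVec]
  have hne4 : r ≠ 4 := by
    intro e
    have h1 : LinearMap.range f = ⊤ := Submodule.eq_top_of_finrank_eq (by rw [← hr, e]; simp)
    refine hns ⟨1, one_pow 4, fun v => ?_⟩
    have := hf.map_id v (h1 ▸ Submodule.mem_top)
    rw [hfdef, Matrix.toLin'_apply, hQdef, neg_mulVec, add_mulVec, one_mulVec] at this
    show t.1.1 *ᵥ v = (1 : F) • v
    rw [one_smul]
    linear_combination (norm := skip) -this
    funext k
    simp only [Pi.add_apply, Pi.sub_apply, Pi.neg_apply, Pi.zero_apply]
    linear_combination (-(v k)) * h3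
  have hdet : (-1 : F) ^ (4 - r) = 1 := by
    have hd : t.1.1.det = 1 := t.1.2
    have ht' : t.1.1 = -Q - 1 := by rw [hQdef]; abel
    set e := (LinearMap.range f).prodEquivOfIsCompl (LinearMap.ker f) hf.isCompl with he
    have hconj := hf.eq_conj_prod_map'
    have hlin : Matrix.toLin' t.1.1 = (e.toLinearMap ∘ₗ
        LinearMap.prodMap (LinearMap.id : LinearMap.range f →ₗ[F] LinearMap.range f)
          ((-1 : F) • (LinearMap.id : LinearMap.ker f →ₗ[F] LinearMap.ker f)) ∘ₗ e.symm.toLinearMap) := by
      refine LinearMap.ext fun x => ?_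
      obtain ⟨⟨a, b⟩, rfl⟩ := e.surjective x
      simp only [LinearMap.comp_apply, LinearEquiv.coe_coe, LinearEquiv.symm_apply_apply,
        LinearMap.prodMap_apply, LinearMap.id_apply, LinearMap.smul_apply]
      rw [ht', map_sub, map_neg, ← hfdef, Matrix.toLin'_one]
      simp only [he, Submodule.coe_prodEquivOfIsCompl', LinearMap.sub_apply, LinearMap.neg_apply,
        LinearMap.id_apply, map_add, hf.map_id a.1 a.2, LinearMap.mem_ker.1 b.2, add_zero,
        Submodule.coe_smul]
      funext k
      simp only [Pi.add_apply, Pi.sub_apply, Pi.neg_apply, Pi.zero_apply, Pi.smul_apply, smul_eq_mul]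
      linear_combination (-(a.1 k)) * h3
    rw [← LinearMap.det_toLin', hlin, LinearMap.det_conj, LinearMap.det_prodMap, LinearMap.det_id,
      LinearMap.det_smul, LinearMap.det_id, mul_one, one_mul] at hd
    have hk : Module.finrank F (LinearMap.ker f) = 4 - r := by
      have := f.finrank_range_add_finrank_ker
      rw [Module.finrank_fin_fun, ← hr] at this
      omega
    rw [← hk]; exact hd
  have hr2 : r = 2 := by
    interval_cases r
    · exact absurd rfl hne0
    · exact absurd (by norm_num at hdet; exact hdet) (neg_one_ne_one hF)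
    · rfl
    · exact absurd (by norm_num at hdet; exact hdet) (neg_one_ne_one hF)
    · exact absurd rfl hne4
  rw [hr2, hQdef, Matrix.trace_neg, Matrix.trace_add, Matrix.trace_one, Fintype.card_fin] at htr
  push_cast at htr
  linear_combination -htr - 2 * h3

include U in
/-- Common eigenlines of two commuting involutions. -/
theorem exists_line {t t' : SU 4 F 3} (ht : t * t = 1) (ht' : t' * t' = 1) (hc : t * t' = t' * t)
    (h1 : ¬ IsSc t) (h2 : ¬ IsSc t') (h12 : ¬ IsSc (t * t')) {s s' : F} (hs : s = 1 ∨ s = -1)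
    (hs' : s' = 1 ∨ s' = -1) :
    ∃ v : Fin 4 → F, hf 3 v v = 1 ∧ act t v = s • v ∧ act t' v = s' • v ∧
      ∀ x, act t x = s • x → act t' x = s' • x → ∃ c : F, x = c • v := by
  have h3 := three_eq_zero hF
  have hss : s * s = 1 := by rcases hs with rfl | rfl <;> simp
  have hss' : s' * s' = 1 := by rcases hs' with rfl | rfl <;> simp
  have hσs : U.σ s = s := by rcases hs with rfl | rfl <;> simp
  have hσs' : U.σ s' = s' := by rcases hs' with rfl | rfl <;> simp
  have m1 : t.1.1 * t.1.1 = 1 := congrArg (fun x : SU 4 F 3 => x.1.1) ht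
  have m2 : t'.1.1 * t'.1.1 = 1 := congrArg (fun x : SU 4 F 3 => x.1.1) ht'
  have m12 : t.1.1 * t'.1.1 = t'.1.1 * t.1.1 := congrArg (fun x : SU 4 F 3 => x.1.1) hc
  set P : Matrix (Fin 4) (Fin 4) F := (1 + s • t.1.1) * (1 + s' • t'.1.1) with hP
  have hPx : ∀ x, P *ᵥ x = x + s' • act t' x + s • act t x + (s * s') • act t (act t' x) := fun x => by
    simp only [hP, ← mulVec_mulVec, add_mulVec, one_mulVec, smul_mulVec, mulVec_add, mulVec_smul,
      act]
    module
  have htP : ∀ x, act t (P *ᵥ x) = s • (P *ᵥ x) := fun x => by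
    have e : ∀ y, act t (act t y) = y := fun y => by rw [← act_mul, ht, act_one]
    simp only [hPx, act_add, act_smul, e, smul_add, smul_smul]
    match_scalars <;> first
      | linear_combination (0 : F) * h3
      | linear_combination hss
      | linear_combination -hss
      | linear_combination s' * hss
      | linear_combination -s' * hss
  have htP' : ∀ x, act t' (P *ᵥ x) = s' • (P *ᵥ x) := fun x => by
    have e : ∀ y, act t' (act t' y) = y := fun y => by rw [← act_mul, ht', act_one]
    have ec : ∀ y, act t' (act t y) = act t (act t' y) := fun y => by rw [← act_mul, ← act_mul, hc]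
    simp only [hPx, act_add, act_smul, ec, e, smul_add, smul_smul]
    match_scalars <;> first
      | linear_combination (0 : F) * h3
      | linear_combination hss'
      | linear_combination -hss'
      | linear_combination s * hss'
      | linear_combination -s * hss'
  have hfixP : ∀ x, act t x = s • x → act t' x = s' • x → P *ᵥ x = x := fun x e e' => by
    rw [hPx, e', act_smul, e, smul_smul, smul_smul, smul_smul]
    match_scalars <;> linear_combination (1 + s' * s') * hss + 2 * hss' + h3
  set f := Matrix.toLin' P with hfdef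
  have hf' : LinearMap.IsProj (LinearMap.range f) f := by
    refine ⟨fun x => LinearMap.mem_range_self f x, ?_⟩
    rintro _ ⟨x, rfl⟩
    simp only [hfdef, Matrix.toLin'_apply]
    exact hfixP _ (htP x) (htP' x)
  set r := Module.finrank F (LinearMap.range f) with hr
  have hr4 : r ≤ 4 := (Submodule.finrank_le _).trans (by simp)
  have htrP : P.trace = 1 := by
    rw [hP, add_mul, one_mul, mul_add, mul_one, Matrix.trace_add, Matrix.trace_add, Matrix.trace_add,
      Matrix.trace_one, Fintype.card_fin, Matrix.smul_mul, Matrix.mul_smul, smul_smul, Matrix.trace_smul,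
      Matrix.trace_smul, Matrix.trace_smul, trace_involution hF ht h1, trace_involution hF ht' h2,
      show (t.1.1 * t'.1.1).trace = 0 from trace_involution hF (by
        rw [show t * t' * (t * t') = t * (t' * t) * t' by group, ← hc,
          show t * (t * t') * t' = (t * t) * (t' * t') by group, ht, ht', mul_one]) h12]
    push_cast
    simp
    linear_combination h3
  have htr : (r : F) = 1 := by rw [← hf'.trace, hfdef, Matrix.trace_toLin'_eq, htrP]
  have hr1 : r = 1 := by
    interval_cases r
    · exact absurd (by simpa using htr) (zero_ne_one (α := F))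
    · rfl
    · exact absurd (show (-1 : F) = 1 by push_cast at htr; linear_combination htr - h3) (neg_one_ne_one hF)
    · exact absurd (show (0 : F) = 1 by push_cast at htr; linear_combination htr - h3) zero_ne_one
    · exfalso
      have htop : LinearMap.range f = ⊤ := Submodule.eq_top_of_finrank_eq (by rw [← hr]; simp)
      refine h1 ⟨s, by rcases hs with rfl | rfl <;> norm_num, fun x => ?_⟩
      obtain ⟨y, rfl⟩ : x ∈ LinearMap.range f := htop ▸ Submodule.mem_top
      rw [hfdef, Matrix.toLin'_apply]
      exact htP y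
  obtain ⟨⟨v, hv⟩, hv0, hgen⟩ := finrank_eq_one_iff'.1 hr1
  have hv0' : v ≠ 0 := fun e => hv0 (Subtype.ext e)
  obtain ⟨y, hy⟩ := hv
  rw [hfdef, Matrix.toLin'_apply] at hy
  have e1 : act t v = s • v := by rw [← hy]; exact htP y
  have e2 : act t' v = s' • v := by rw [← hy]; exact htP' y
  have hprop : ∀ x, ∃ c : F, P *ᵥ x = c • v := fun x => by
    obtain ⟨c, hc'⟩ := hgen ⟨f x, LinearMap.mem_range_self f x⟩
    exact ⟨c, by have := congrArg Subtype.val hc'; simpa [hfdef] using this.symm⟩
  have hsa : ∀ (w : SU 4 F 3), w * w = 1 → ∀ x y, hf 3 (act w x) y = hf 3 x (act w y) := fun w hw x y => by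
    rw [← hf_act w, ← act_mul, hw, act_one]
  have hvv : hf 3 v v ≠ 0 := by
    intro e
    apply hv0'
    funext k
    obtain ⟨c, hc'⟩ := hprop (ev F 4 (k : ℕ))
    have : hf 3 v (P *ᵥ ev F 4 (k : ℕ)) = hf 3 v (ev F 4 (k : ℕ)) := by
      simp only [hPx, U.add_r, U.smul_r, map_mul, hσs, hσs', ← hsa t ht, ← hsa t' ht', e1, e2, act_smul,
        U.smul_l]
      linear_combination (hf 3 v (ev F 4 (k : ℕ))) * ((1 + s' * s') * hss + 2 * hss' + h3)
    rw [hc', U.smul_r, e, mul_zero, U.ev_r _ k.isLt] at this
    simpa using this.symm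
  obtain ⟨m, hm, hu⟩ := U.exists_unit_smul hvv
  refine ⟨m • v, hu, ?_, ?_, fun x ex ex' => ?_⟩
  · rw [act_smul, e1, smul_comm]
  · rw [act_smul, e2, smul_comm]
  · obtain ⟨c, hc'⟩ := hprop x
    rw [hfixP x ex ex'] at hc'
    exact ⟨c / m, by rw [smul_smul, div_mul_cancel₀ _ hm]; exact hc'⟩

end UF

end CfsgLib.Chev.CT.Phan
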