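/-
Lifting a copy of `SU 3` in an image of `SU 4` to a vector stabiliser.
-/
import Cfsg.Agent.Lib.Chev.CT.Phan.Three.Lines

set_option autoImplicit false

namespace CfsgLib.Chev.CT.Phan

open Matrix Cfsg

universe u v

variable {F : Type u} [Field F] {G : Type v} [Group G]

/-- A homomorphism of `SU 4` with scalar kernel and an injective one of `SU 3` into its range. -/
structure Cov (g : SU 4 F 3 →* G) (ψ : SU 3 F 3 →* G) : Prop where
  ker : ∀ z, g z = 1 → IsSc z
  inj : Function.Injective ψ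
  le : ∀ a, ∃ z, g z = ψ a
  center : ∀ a : SU 3 F 3, (∀ b, a * b = b * a) → a = 1

namespace Cov

variable {g : SU 4 F 3 →* G} {ψ : SU 3 F 3 →* G} (C : Cov g ψ)
include C

theorem ratio {z z' : SU 4 F 3} (h : g z = g z') : ∃ s, IsSc s ∧ z = s * z' :=
  ⟨z * z'⁻¹, C.ker _ (by rw [map_mul, map_inv, h, mul_inv_cancel]), (inv_mul_cancel_right z z').symm⟩

theorem lift_cube {a : SU 3 F 3} (ha : a ^ 3 = 1) : ∃ z, g z = ψ a ∧ z ^ 3 = 1 := by
  obtain ⟨z, hz⟩ := C.le a
  have h1 : IsSc (z ^ 3) := C.ker _ (by rw [map_pow, hz, ← map_pow, ha, map_one])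
  refine ⟨z ^ 4, by rw [map_pow, hz, ← map_pow, pow_succ, ha, one_mul], ?_⟩
  rw [← pow_mul, show 4 * 3 = 3 * 4 from rfl, pow_mul, h1.pow_four]

theorem comm_cube {z w : SU 4 F 3} (h : g z * g w = g w * g z) (h3 : z ^ 3 = 1) : z * w = w * z := by
  obtain ⟨s, hs, e⟩ := C.ratio (z := z * w) (z' := w * z) (by rw [map_mul, map_mul, h])
  have e1 : z * w * z⁻¹ = s * w := by rw [e]; group
  have key : ∀ n : ℕ, z ^ n * w * (z ^ n)⁻¹ = s ^ n * w := by
    intro n
    induction n with
    | zero => simp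
    | succ n ih =>
      have hsn : s * z ^ n = z ^ n * s := hs.comm _
      calc z ^ (n + 1) * w * (z ^ (n + 1))⁻¹ = z ^ n * (z * w * z⁻¹) * (z ^ n)⁻¹ := by rw [pow_succ]; group
        _ = z ^ n * s * w * (z ^ n)⁻¹ := by rw [e1]; group
        _ = s * (z ^ n * w * (z ^ n)⁻¹) := by rw [← hsn]; group
        _ = _ := by rw [ih, pow_succ', mul_assoc]
  have := key 3
  rw [h3, one_mul, inv_one, mul_one] at this
  have hs3 : s ^ 3 = 1 := mul_eq_right.1 this.symm
  rw [e, hs.eq_one_of_cube hs3, one_mul]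

theorem not_sc {z : SU 4 F 3} {a : SU 3 F 3} (hz : g z = ψ a) (ha : a ≠ 1) : ¬ IsSc z := fun h => ha
  (C.center a fun b => C.inj (by
    obtain ⟨w, hw⟩ := C.le b
    rw [map_mul, map_mul, ← hz, ← hw, ← map_mul, ← map_mul, h.comm]))

/-- An involutive lift of the square of a quaternion element. -/
theorem quat {x y n : SU 3 F 3} (hxx : x * x = n) (hyy : y * y = n) (hxy : x * y = n * (y * x))
    {X Y : SU 4 F 3} (hX : g X = ψ x) (hY : g Y = ψ y) :
    ∃ T : SU 4 F 3, g T = ψ n ∧ T * T = 1 ∧ X * Y = T * (Y * X) ∧ T * X = X * T ∧ T * Y = Y * T ∧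
      ∃ s, IsSc s ∧ X * X = s * T := by
  set T := X * Y * (Y * X)⁻¹ with hT
  have gT : g T = ψ n := by
    rw [hT, map_mul, map_inv, map_mul, map_mul, hX, hY, ← map_mul, ← map_mul, ← map_inv, ← map_mul,
      hxy, mul_inv_cancel_right]
  have hXY : X * Y = T * (Y * X) := by rw [hT]; group
  obtain ⟨s, hs, eX⟩ := C.ratio (z := X * X) (z' := T) (by rw [map_mul, hX, ← map_mul, hxx, gT])
  obtain ⟨r, hr, eY⟩ := C.ratio (z := Y * Y) (z' := T) (by rw [map_mul, hY, ← map_mul, hyy, gT])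
  have hTX : T * X = X * T := by
    have : X * (X * X) = X * X * X := (mul_assoc _ _ _).symm
    rw [eX, ← mul_assoc, ← hs.comm, mul_assoc, mul_assoc] at this
    exact (mul_left_cancel this).symm
  have hTY : T * Y = Y * T := by
    have : Y * (Y * Y) = Y * Y * Y := (mul_assoc _ _ _).symm
    rw [eY, ← mul_assoc, ← hr.comm, mul_assoc, mul_assoc] at this
    exact (mul_left_cancel this).symm
  refine ⟨T, gT, ?_, hXY, hTX, hTY, s, hs, eX⟩
  have h1 : X * X * Y = T * T * (Y * (X * X)) := by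
    calc X * X * Y = X * (X * Y) := mul_assoc _ _ _
      _ = (X * T) * (Y * X) := by rw [hXY]; group
      _ = T * (X * Y) * X := by rw [← hTX]; group
      _ = _ := by rw [hXY]; group
  rw [eX] at h1
  have h2 : s * T * Y = Y * (s * T) := by
    rw [mul_assoc, hTY, ← mul_assoc, hs.comm, mul_assoc]
  rw [h2] at h1
  exact mul_eq_right.1 h1.symm

end Cov

variable [Fintype F] (U : UF F 3) (hF : Fintype.card F = 9)
include U hF

/-- The elements of order three of one block fix the common fixed vector of the two involutions. -/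
theorem Cov.fix_line {g : SU 4 F 3 →* G} {ψ : SU 3 F 3 →* G} (C : Cov g ψ)
    (ι : SU 2 F 3 →* SU 3 F 3) {x y u : SU 2 F 3} {n : SU 2 F 3} (n' : SU 3 F 3)
    (hu : u ^ 3 = 1) (hux : u * x = y * u) (huy : u * y = x * y * u)
    (hn : ∀ a, n * a = a * n) (hn1 : ι n ≠ 1) (hn1' : n' ≠ 1) (hn12 : ι n * n' ≠ 1)
    (hk : ∀ a, (ι x)⁻¹ * n' * ι a = ι a * ((ι x)⁻¹ * n'))
    {X Y T T' : SU 4 F 3} (hX : g X = ψ (ι x)) (hY : g Y = ψ (ι y)) (hT : g T = ψ (ι n))
    (hTT : T * T = 1) (hXY : X * Y = T * (Y * X)) (hTX : T * X = X * T) (hTY : T * Y = Y * T)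
    {s : SU 4 F 3} (hs : IsSc s) (hXX : X * X = s * T) (hT' : g T' = ψ n') (hTT' : T' * T' = 1) :
    T * T' = T' * T ∧ ∀ v, act T v = v → act T' v = v → v ≠ 0 →
      ∀ a : SU 2 F 3, a ^ 3 = 1 → ∃ z, g z = ψ (ι a) ∧ z ^ 3 = 1 ∧ act z v = v := by
  set K := X⁻¹ * T' with hKd
  have hXK : X * K = T' := by rw [hKd]; group
  have hgK : g K = ψ ((ι x)⁻¹ * n') := by rw [hKd, map_mul, map_inv, hX, hT', ← map_inv, ← map_mul]
  have hcube : ∀ a : SU 2 F 3, a ^ 3 = 1 → ∃ z, g z = ψ (ι a) ∧ z ^ 3 = 1 ∧ z * T = T * z ∧ z * K = K * z := by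
    intro a ha
    obtain ⟨z, hz, hz3⟩ := C.lift_cube (a := ι a) (by rw [← map_pow, ha, map_one])
    exact ⟨z, hz, hz3, C.comm_cube (by rw [hz, hT, ← map_mul, ← map_mul, ← map_mul, ← map_mul, hn]) hz3,
      C.comm_cube (by rw [hz, hgK, ← map_mul, ← map_mul, hk]) hz3⟩
  obtain ⟨W, hW, hW3, hWT, hWK⟩ := hcube u hu
  obtain ⟨s1, hs1, eY⟩ := C.ratio (z := W * X * W⁻¹) (z' := Y) (by
    rw [map_mul, map_mul, map_inv, hW, hX, hY, ← map_mul ψ, ← map_mul ι, hux, map_mul ι, map_mul ψ,
      mul_inv_cancel_right])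
  obtain ⟨s2, hs2, eXY⟩ := C.ratio (z := W * (W * X * W⁻¹) * W⁻¹) (z' := X * (W * X * W⁻¹)) (by
    simp only [map_mul, map_inv, hW, hX]
    have h1 : ψ (ι u) * ψ (ι x) * (ψ (ι u))⁻¹ = ψ (ι y) := by
      rw [← map_mul, ← map_mul, hux, map_mul, map_mul, mul_inv_cancel_right]
    rw [h1, ← map_mul, ← map_mul, huy, map_mul, map_mul, mul_inv_cancel_right, map_mul, map_mul])
  set Y' := W * X * W⁻¹ with hY'd
  have hY'W : Y' = s1 * Y := eY
  obtain ⟨c, hc, eXK⟩ := C.ratio (z := X * K) (z' := K * X) (by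
    rw [map_mul g X, map_mul g K, hX, hgK, ← map_mul, ← map_mul, hk])
  have hY'K : Y' * K = c * (K * Y') := by
    calc Y' * K = W * X * (W⁻¹ * (K * W)) * W⁻¹ := by rw [hY'd]; group
      _ = W * (X * K) * W⁻¹ := by rw [← hWK]; group
      _ = (W * c) * (K * X) * W⁻¹ := by rw [eXK]; group
      _ = c * ((W * K) * X * W⁻¹) := by rw [← hc.comm]; group
      _ = _ := by rw [hWK, hY'd]; group
  have hc1 : c = 1 := by
    have h1 : X * Y' * K = c * c * (K * (X * Y')) := by
      calc X * Y' * K = (X * c) * (K * Y') := by rw [mul_assoc, hY'K, ← mul_assoc]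
        _ = c * ((X * K) * Y') := by rw [← hc.comm X]; group
        _ = _ := by rw [eXK]; group
    have h2 : W * Y' * W⁻¹ * K = c * (K * (W * Y' * W⁻¹)) := by
      calc W * Y' * W⁻¹ * K = W * Y' * (W⁻¹ * (K * W)) * W⁻¹ := by group
        _ = W * (Y' * K) * W⁻¹ := by rw [← hWK]; group
        _ = (W * c) * (K * Y') * W⁻¹ := by rw [hY'K]; group
        _ = c * ((W * K) * Y' * W⁻¹) := by rw [← hc.comm]; group
        _ = _ := by rw [hWK]; group
    rw [eXY] at h2
    rw [mul_assoc s2, h1] at h2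
    have h3 : c * c * (s2 * (K * (X * Y'))) = c * (s2 * (K * (X * Y'))) := by
      calc c * c * (s2 * (K * (X * Y'))) = s2 * (c * c * (K * (X * Y'))) := by
            rw [← mul_assoc, ← hs2.comm (c * c), mul_assoc]
        _ = c * (K * (s2 * (X * Y'))) := h2
        _ = _ := by rw [← mul_assoc K, ← hs2.comm K, mul_assoc]
    exact mul_eq_right.1 (mul_right_cancel h3)
  rw [hc1, one_mul] at eXK
  have hXT' : X * T' = T' * X := by rw [← hXK, mul_assoc, ← eXK]
  have hTT'c : T * T' = T' * T := by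
    have h : s * T * T' = T' * (s * T) := by rw [← hXX, mul_assoc, hXT', ← mul_assoc, hXT', mul_assoc]
    rw [← mul_assoc T', ← hs.comm T', mul_assoc, mul_assoc] at h
    exact mul_left_cancel h
  refine ⟨hTT'c, fun v hTv hT'v hv a ha => ?_⟩
  have h12 : ¬ IsSc (T * T') := C.not_sc (a := ι n * n') (by rw [map_mul, hT, hT', map_mul]) hn12
  obtain ⟨p, hp, hp1, hp2, hpg⟩ := U.exists_line hF hTT hTT' hTT'c (C.not_sc hT hn1)
    (C.not_sc hT' hn1') h12 (s := 1) (s' := 1) (Or.inl rfl) (Or.inl rfl)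
  obtain ⟨w, hw, hw1, hw2, hwg⟩ := U.exists_line hF hTT hTT' hTT'c (C.not_sc hT hn1)
    (C.not_sc hT' hn1') h12 (s := 1) (s' := -1) (Or.inl rfl) (Or.inr rfl)
  simp only [one_smul] at hp1 hp2 hw1 hpg hwg
  have h3 := UF.three_eq_zero hF
  have hp0 : p ≠ 0 := fun e => by rw [e, U.zero_l] at hp; exact zero_ne_one hp
  have hw0 : w ≠ 0 := fun e => by rw [e, U.zero_l] at hw; exact zero_ne_one hw
  have hind : ∀ a b : F, a • p + b • w = 0 → a = 0 ∧ b = 0 := by
    intro a b h
    have h' := congrArg (act T') h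
    rw [act_add, act_smul, act_smul, hp2, hw2, act_zero] at h'
    have ha' : (2 * a) • p = 0 := by
      have : a • p + b • w + (a • p + b • ((-1 : F) • w)) = 0 := by rw [h, h', add_zero]
      rw [← this]; module
    have ha : a = 0 := (mul_eq_zero.1 ((smul_eq_zero.1 ha').resolve_right hp0)).resolve_left (UF.two_ne hF)
    rw [ha, zero_smul, zero_add] at h
    exact ⟨ha, (smul_eq_zero.1 h).resolve_right hw0⟩
  have hTTv : ∀ x, act T' (act T' x) = x := fun x => by rw [← act_mul, hTT', act_one]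
  have hTc : ∀ x, act T (act T' x) = act T' (act T x) := fun x => by rw [← act_mul, hTT'c, act_mul]
  have hsplit : ∀ x, act T x = x → ∃ a b : F, x = a • p + b • w := by
    intro x hx
    obtain ⟨a, ea⟩ := hpg (x + act T' x) (by rw [act_add, hTc, hx]) (by rw [act_add, hTTv]; abel)
    obtain ⟨b, eb⟩ := hwg (x - act T' x) (by rw [act_sub, hTc, hx])
      (by rw [act_sub, hTTv, neg_one_smul]; abel)
    refine ⟨-a, -b, ?_⟩
    rw [neg_smul, neg_smul, ← ea, ← eb]
    funext k
    simp only [Pi.add_apply, Pi.sub_apply, Pi.neg_apply]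
    linear_combination (x k) * h3
  have stab : ∀ {Z : SU 4 F 3}, Z * T = T * Z → ∀ x, act T x = x → act T (act Z x) = act Z x :=
    fun {Z} hZ x hx => by rw [← act_mul, ← hZ, act_mul, hx]
  obtain ⟨α, eα⟩ := hpg (act X p) (stab hTX.symm p hp1) (by rw [← act_mul, ← hXT', act_mul, hp2])
  obtain ⟨β, eβ⟩ := hwg (act X w) (stab hTX.symm w hw1)
    (by rw [← act_mul, ← hXT', act_mul, hw2, act_smul])
  obtain ⟨cs, hcs4, hcs⟩ := hs
  have hcs0 : cs ≠ 0 := fun e => by rw [e] at hcs4; norm_num at hcs4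
  have hαβ : α = β := by
    by_contra hne
    have hsq : ∀ x, act T x = x → act X (act X x) = cs • x := fun x hx => by
      rw [← act_mul, hXX, act_mul, hx, hcs]
    have hα2 : α * α = cs := smul_left_injective F hp0 (by
      show (α * α) • p = cs • p
      rw [← hsq p hp1, eα, act_smul, eα, smul_smul])
    have hβ2 : β * β = cs := smul_left_injective F hw0 (by
      show (β * β) • w = cs • w
      rw [← hsq w hw1, eβ, act_smul, eβ, smul_smul])
    have hs1c : ∀ x, act s1 (act Y x) = act Y' x := fun x => by rw [← act_mul, ← hY'W]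
    have hY'T : Y' * T = T * Y' := by rw [hY'W, mul_assoc, ← hTY, ← mul_assoc, hs1.comm, mul_assoc]
    have hcomm : ∀ x, act T x = x → act X (act Y' x) = act Y' (act X x) := by
      intro x hx
      have hXY' : X * Y' = T * (Y' * X) := by
        rw [hY'W, ← mul_assoc, ← hs1.comm, mul_assoc, hXY, ← mul_assoc, hs1.comm, mul_assoc, mul_assoc]
      rw [← act_mul, hXY', act_mul, stab (by rw [mul_assoc, ← hTX, ← mul_assoc, hY'T, mul_assoc]) x hx,
        act_mul]
    obtain ⟨a₁, b₁, e₁⟩ := hsplit _ (stab hY'T p hp1)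
    obtain ⟨a₂, b₂, e₂⟩ := hsplit _ (stab hY'T w hw1)
    have hb₁ : b₁ = 0 := by
      have h := hcomm p hp1
      rw [e₁, eα, act_add, act_smul, act_smul, eα, eβ, act_smul, e₁] at h
      obtain ⟨-, h'⟩ := hind 0 (b₁ * (β - α)) (by rw [← sub_self (α • (a₁ • p + b₁ • w))]; nth_rw 1 [← h]; module)
      exact (mul_eq_zero.1 h').resolve_right (sub_ne_zero.2 (Ne.symm hne))
    have ha₂ : a₂ = 0 := by
      have h := hcomm w hw1
      rw [e₂, eβ, act_add, act_smul, act_smul, eα, eβ, act_smul, e₂] at h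
      obtain ⟨h', -⟩ := hind (a₂ * (α - β)) 0 (by rw [← sub_self (β • (a₂ • p + b₂ • w))]; nth_rw 1 [← h]; module)
      exact (mul_eq_zero.1 h').resolve_right (sub_ne_zero.2 hne)
    rw [hb₁, zero_smul, add_zero] at e₁
    rw [ha₂, zero_smul, zero_add] at e₂
    have hconj : ∀ (M : SU 4 F 3) (r : F), (∀ x, act T x = x → act (W * M * W⁻¹) x = r • x) →
        ∀ x, act T x = x → act M x = r • x := by
      intro M r h x hx
      have := congrArg (act W⁻¹) (h _ (stab hWT x hx))
      rwa [act_mul, act_mul, act_inv_act, act_inv_act, act_smul, act_inv_act] at this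
    have hab : a₁ ≠ b₂ := by
      intro e
      have hsc : ∀ x, act T x = x → act Y' x = a₁ • x := fun x hx => by
        obtain ⟨a, b, rfl⟩ := hsplit x hx
        rw [act_add, act_smul, act_smul, e₁, e₂, e]; module
      have hXs := hconj X a₁ (by rw [← hY'd]; exact hsc)
      apply hne
      have h1 := hXs p hp1
      have h2 := hXs w hw1
      rw [eα] at h1
      rw [eβ] at h2
      exact (smul_left_injective F hp0 h1).trans (smul_left_injective F hw0 h2).symm
    have hY2 : ∀ x, act T x = x → act Y' (act Y' x) = cs • x := fun x hx => by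
      rw [hY'd, act_mul, act_mul, act_mul, act_mul, act_inv_act]
      have hx' : act T (act W⁻¹ x) = act W⁻¹ x := stab (Commute.inv_left hWT) x hx
      rw [hsq _ hx', act_smul, act_act_inv]
    have ha1 : a₁ * a₁ = cs := smul_left_injective F hp0 (by
      show (a₁ * a₁) • p = cs • p
      rw [← hY2 p hp1, e₁, act_smul, e₁, smul_smul])
    have hb2 : b₂ * b₂ = cs := smul_left_injective F hw0 (by
      show (b₂ * b₂) • w = cs • w
      rw [← hY2 w hw1, e₂, act_smul, e₂, smul_smul])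
    have hb2' : b₂ = -a₁ := by
      rcases mul_self_eq_mul_self_iff.1 (hb2.trans ha1.symm) with h | h
      · exact absurd h.symm hab
      · exact h
    have hβ' : β = -α := by
      rcases mul_self_eq_mul_self_iff.1 (hβ2.trans hα2.symm) with h | h
      · exact absurd h.symm hne
      · exact h
    obtain ⟨c2, -, hc2⟩ := hs2
    have hYs := hconj Y' (c2 * (a₁ * α)) (fun x hx => by
      rw [eXY]
      obtain ⟨a, b, rfl⟩ := hsplit x hx
      rw [act_mul, hc2, act_mul, act_add, act_smul, act_smul, e₁, e₂, act_add, act_smul, act_smul, act_smul,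
        act_smul, eα, eβ, hb2', hβ']
      module)
    have h1 := hYs p hp1
    have h2 := hYs w hw1
    rw [e₁] at h1
    rw [e₂] at h2
    exact hab ((smul_left_injective F hp0 h1).trans (smul_left_injective F hw0 h2).symm)
  have hXsc : ∀ x, act T x = x → act X x = α • x := fun x hx => by
    obtain ⟨a, b, rfl⟩ := hsplit x hx
    rw [act_add, act_smul, act_smul, eα, eβ, ← hαβ]; module
  obtain ⟨z, hz, hz3, hzT, hzK⟩ := hcube a ha
  have hα0 : α ≠ 0 := fun e => hp0 (by rw [← act_inv_act X p, eα, e, zero_smul, act_zero])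
  have hKv : act K v = α⁻¹ • v := by
    rw [hKd, act_mul, hT'v]
    exact act_inv_eq (by rw [act_smul, hXsc v hTv, smul_smul, inv_mul_cancel₀ hα0, one_smul])
  have hzv : act T (act z v) = act z v := stab hzT v hTv
  have hzv' : act T' (act z v) = act z v := by
    rw [← hXK, act_mul, ← act_mul K, ← hzK, act_mul, hKv, act_smul, act_smul, hXsc _ hzv, smul_smul,
      inv_mul_cancel₀ hα0, one_smul]
  obtain ⟨cz, ecz⟩ := hpg (act z v) hzv hzv'
  obtain ⟨cv, ecv⟩ := hpg v hTv hT'v
  have hcv : cv ≠ 0 := fun e => hv (by rw [ecv, e, zero_smul])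
  have hzv'' : act z v = (cz / cv) • v := by
    rw [ecz, ecv, smul_smul, div_mul_cancel₀ _ hcv]
  refine ⟨z, hz, hz3, ?_⟩
  have : act (z ^ 3) v = ((cz / cv) ^ 3) • v := by
    simp only [pow_succ, pow_zero, one_mul, act_mul, hzv'', act_smul, smul_smul, mul_assoc]
  rw [hz3, act_one] at this
  have h1 : (cz / cv) ^ 3 = 1 := smul_left_injective F hv (by simpa using this.symm)
  rw [hzv'', UF.eq_one_of_cube hF h1, one_smul]

end CfsgLib.Chev.CT.Phan
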