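/-
A window of length four over nine elements: the amalgam map extends to `SU 4`.
-/
import Cfsg.Agent.Lib.Chev.CT.Phan.Three.Lift

set_option autoImplicit false

namespace CfsgLib.Chev.CT.Phan

open Matrix Cfsg

universe u v

variable {F : Type u} [Field F] {G : Type v} [Group G]

theorem UF.emb_fix {q N m : ℕ} (U : UF F q) (o : ℕ) (ho : o + m ≤ N) {A : SU m F q} {k : ℕ} (hk : k < m)
    (h : act (embSU o ho U A) (ev F N (o + k)) = ev F N (o + k)) : act A (ev F m k) = ev F m k := by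
  funext i
  have e := congrFun h (winEquiv o ho (Sum.inl i))
  rw [embSU_inl, show (fun j : Fin m => ev F N (o + k) (winEquiv o ho (Sum.inl j))) = ev F m k from
    funext fun j => by simp [ev, winEquiv]] at e
  rw [e]
  simp [ev, winEquiv]

namespace UF

variable (U : UF F 3)
include U

/-- An element scalar on a window and diagonal outside commutes with that window. -/
theorem block_comm {N o m : ℕ} (ho : o + m ≤ N) {k : SU N F 3} {c : F}
    (hin : ∀ r, o ≤ r → r < o + m → act k (ev F N r) = c • ev F N r)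
    (hout : ∀ r, r < N → r < o ∨ o + m ≤ r → ∃ e : F, act k (ev F N r) = e • ev F N r) (A : SU m F 3) :
    k * embSU o ho U A = embSU o ho U A * k := by
  refine su_ext fun r hr => ?_
  rw [act_mul, act_mul]
  by_cases h : r < o ∨ o + m ≤ r
  · obtain ⟨e, he⟩ := hout r hr h
    rw [embSU_mem o ho U A r hr h, he, act_smul, embSU_mem o ho U A r hr h]
  · rw [hin r (by omega) (by omega), act_smul]
    set v := act (embSU o ho U A) (ev F N r)
    have hv : Win o (o + m) v := U.Win_act (embSU_mem o ho U A) (Win_ev (by omega) (by omega))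
    have e : v = ∑ l, v l • ev F N (l : ℕ) := by funext l; simp [ev, Finset.sum_apply, Fin.val_inj]
    conv_lhs => rw [e]
    conv_rhs => rw [e]
    simp only [act, mulVec_sum, mulVec_smul, Finset.smul_sum]
    refine Finset.sum_congr rfl fun l _ => ?_
    by_cases hl : (l : ℕ) < o ∨ o + m ≤ (l : ℕ)
    · simp [hv l hl]
    · have := hin l (by omega) (by omega)
      simp only [act] at this
      rw [this, smul_comm]

variable [Fintype F] (hF : Fintype.card F = 9)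
include hF

theorem center_three : ∀ a : SU 3 F 3, (∀ b, a * b = b * a) → a = 1 := by
  have h := CfsgLib.Classical.card_center_su (F := F) (n := 3) (q := 3) (by rw [hF]; norm_num) (by norm_num)
  intro a ha
  have : a ∈ Subgroup.center (SU 3 F 3) := Subgroup.mem_center_iff.2 fun b => (ha b).symm
  rw [Subgroup.card_eq_one.1 (h.trans (by norm_num))] at this
  exact Subgroup.mem_bot.1 this

/-- The quaternion group and an element of order three permuting its generators. -/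
theorem exists_quat : ∃ (i : F) (x y u n : SU 2 F 3) (hx : U.nm i + U.nm 0 = 1)
    (hy : U.nm (0 : F) + U.nm 1 = 1) (hn : U.nm (-1 : F) + U.nm 0 = 1),
    i * i = -1 ∧ U.σ i = -i ∧ x = U.su2 i 0 hx ∧ y = U.su2 0 1 hy ∧ n = U.su2 (-1) 0 hn ∧
      x * x = n ∧ y * y = n ∧ x * y = n * (y * x) ∧ n * n = 1 ∧ (∀ a, n * a = a * n) ∧
      u ^ 3 = 1 ∧ u * x = y * u ∧ u * y = x * y * u := by
  obtain ⟨i, hi, hσi, hni⟩ := U.exists_sq_neg_one
  have hx : U.nm i + U.nm 0 = 1 := by rw [hni, U.nm_zero, add_zero]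
  have hy : U.nm (0 : F) + U.nm 1 = 1 := by rw [U.nm_zero, U.nm_one, zero_add]
  have hn : U.nm (-1 : F) + U.nm 0 = 1 := by rw [U.nm_neg, U.nm_one, U.nm_zero, add_zero]
  have h3 : (3 : F) = 0 := three_eq_zero hF
  have hu : U.nm (1 + i) + U.nm (1 - i) = 1 := by
    simp only [nm, map_add, map_sub, map_one, hσi]; linear_combination -2 * hi + h3
  refine ⟨i, _, _, U.su2 (1 + i) (1 - i) hu, _, hx, hy, hn, hi, hσi, rfl, rfl, rfl, ?_⟩
  have n10 : U.nm (1 : F) + U.nm 0 = 1 := by rw [U.nm_one, U.nm_zero, add_zero]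
  have mul := fun {a b c d : F} (h : U.nm a + U.nm b = 1) (h' : U.nm c + U.nm d = 1) =>
    U.su2_mul h h' (U.su2_mul_prop h h')
  refine ⟨?_, ?_, ?_, ?_, fun a => ?_, ?_, ?_, ?_⟩
  · rw [mul hx hx]; exact U.su2_eq (by simp [hi]) (by simp)
  · rw [mul hy hy]; exact U.su2_eq (by simp) (by simp)
  · rw [mul hy hx, mul hx hy, mul hn (U.su2_mul_prop hy hx)]
    refine U.su2_eq ?_ ?_ <;> simp [hσi]
  · rw [mul hn hn, ← U.su2_one n10]; exact U.su2_eq (by simp) (by simp)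
  · obtain ⟨a, b, h, rfl⟩ := U.su2_surj a
    rw [mul hn h, mul h hn]; exact U.su2_eq (by simp) (by simp)
  · rw [pow_succ, pow_two, mul hu hu, mul (U.su2_mul_prop hu hu) hu, ← U.su2_one n10]
    refine U.su2_eq ?_ ?_ <;> simp [hσi]
    · linear_combination (2 * i) * hi + (2 * i * i - 1) * h3
    · linear_combination (2 - 2 * i) * hi
  · rw [mul hu hx, mul hy hu]
    refine U.su2_eq ?_ ?_ <;> simp [hσi]
    · linear_combination hi
    · linear_combination -hi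
  · have p := U.su2_mul_prop hx hy
    rw [mul hu hy, mul hx hy, mul p hu]
    refine U.su2_eq ?_ ?_ <;> simp [hσi]
    · linear_combination -hi
    · linear_combination hi

/-- A copy of `SU 3` below an image of `SU 4` lifts to the stabiliser of a unit vector. -/
theorem exists_lift {g : SU 4 F 3 →* G} {ψ : SU 3 F 3 →* G} (C : Cov g ψ) :
    ∃ (h : SU 3 F 3 →* SU 4 F 3) (v : Fin 4 → F), hf 3 v v = 1 ∧ (∀ a, g (h a) = ψ a) ∧
      ∀ a, act (h a) v = v := by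
  have h3 := three_eq_zero hF
  obtain ⟨i, x, y, u, n, hx, hy, hn, hi, hσi, ex, ey, en, hxx, hyy, hxy, hnn, hnc, hu3, hux, huy⟩ :=
    U.exists_quat hF
  set ι0 : SU 2 F 3 →* SU 3 F 3 := embSU 0 (by norm_num) U with hι0
  set ι1 : SU 2 F 3 →* SU 3 F 3 := embSU 1 (by norm_num) U with hι1
  have ev0 : ev F 3 0 ≠ 0 := fun e => by simpa [ev] using congrFun e ⟨0, by norm_num⟩
  have ev2 : ev F 3 2 ≠ 0 := fun e => by simpa [ev] using congrFun e ⟨2, by norm_num⟩
  have A0 : ∀ (c : F) (hc : U.nm c + U.nm 0 = 1), act (ι0 (U.su2 c 0 hc)) (ev F 3 0) = c • ev F 3 0 ∧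
      act (ι0 (U.su2 c 0 hc)) (ev F 3 1) = U.σ c • ev F 3 1 ∧
      act (ι0 (U.su2 c 0 hc)) (ev F 3 2) = ev F 3 2 := by
    intro c hc
    refine ⟨?_, ?_, embSU_mem (N := 3) (m := 2) 0 (by norm_num) U _ 2 (by norm_num) (by omega)⟩
    · rw [hι0, U.su2_act_ev0]; simp
    · rw [hι0, show ev F 3 1 = ev F 3 (0 + 1) from rfl, U.su2_act_ev1]; simp
  have A1 : ∀ (c : F) (hc : U.nm c + U.nm 0 = 1), act (ι1 (U.su2 c 0 hc)) (ev F 3 0) = ev F 3 0 ∧
      act (ι1 (U.su2 c 0 hc)) (ev F 3 1) = c • ev F 3 1 ∧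
      act (ι1 (U.su2 c 0 hc)) (ev F 3 2) = U.σ c • ev F 3 2 := by
    intro c hc
    refine ⟨embSU_mem (N := 3) (m := 2) 1 (by norm_num) U _ 0 (by norm_num) (by omega), ?_, ?_⟩
    · rw [hι1, U.su2_act_ev0]; simp
    · rw [hι1, show ev F 3 2 = ev F 3 (1 + 1) from rfl, U.su2_act_ev1]; simp
  obtain ⟨a00, a01, a02⟩ := A0 (-1) hn
  obtain ⟨a10, a11, a12⟩ := A1 (-1) hn
  rw [← en] at a00 a01 a02 a10 a11 a12
  rw [map_neg, map_one] at a01 a12
  obtain ⟨b00, b01, b02⟩ := A0 i hx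
  obtain ⟨b10, b11, b12⟩ := A1 i hx
  rw [← ex] at b00 b01 b02 b10 b11 b12
  rw [hσi] at b01 b12
  have hii : i * -i = 1 := by linear_combination -hi
  have i00 : act (ι0 x)⁻¹ (ev F 3 0) = (-i) • ev F 3 0 := act_inv_eq (by
    rw [act_smul, b00, smul_smul, mul_comm, hii, one_smul])
  have i01 : act (ι0 x)⁻¹ (ev F 3 1) = i • ev F 3 1 := act_inv_eq (by
    rw [act_smul, b01, smul_smul, hii, one_smul])
  have i02 : act (ι0 x)⁻¹ (ev F 3 2) = ev F 3 2 := act_inv_eq b02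
  have i10 : act (ι1 x)⁻¹ (ev F 3 0) = ev F 3 0 := act_inv_eq b10
  have i11 : act (ι1 x)⁻¹ (ev F 3 1) = (-i) • ev F 3 1 := act_inv_eq (by
    rw [act_smul, b11, smul_smul, mul_comm, hii, one_smul])
  have i12 : act (ι1 x)⁻¹ (ev F 3 2) = i • ev F 3 2 := act_inv_eq (by
    rw [act_smul, b12, smul_smul, hii, one_smul])
  have hk0 : ∀ a, (ι0 x)⁻¹ * ι1 n * ι0 a = ι0 a * ((ι0 x)⁻¹ * ι1 n) := by
    intro a
    refine U.block_comm (N := 3) (o := 0) (m := 2) (by norm_num) (c := -i) (fun r _ hr => ?_)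
      (fun r hr hr' => ⟨-1, ?_⟩) a
    · interval_cases r
      · rw [act_mul, a10, i00]
      · rw [act_mul, a11, act_smul, i01, smul_smul, neg_one_mul]
    · obtain rfl : r = 2 := by omega
      rw [act_mul, a12, act_smul, i02]
  have hk1 : ∀ a, (ι1 x)⁻¹ * ι0 n * ι1 a = ι1 a * ((ι1 x)⁻¹ * ι0 n) := by
    intro a
    refine U.block_comm (N := 3) (o := 1) (m := 2) (by norm_num) (c := i) (fun r hr' hr => ?_)
      (fun r hr hr' => ⟨-1, ?_⟩) a
    · interval_cases r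
      · rw [act_mul, a01, act_smul, i11, smul_smul, neg_mul_neg, one_mul]
      · rw [act_mul, a02, i12]
    · obtain rfl : r = 0 := by omega
      rw [act_mul, a00, act_smul, i10]
  have ne1 : ∀ {z : SU 3 F 3} {r : ℕ}, act z (ev F 3 r) = (-1 : F) • ev F 3 r → ev F 3 r ≠ 0 → z ≠ 1 :=
    fun {z r} h hr e => neg_one_ne_one hF (smul_left_injective F hr (by
      show (-1 : F) • ev F 3 r = (1 : F) • ev F 3 r
      rw [← h, e, act_one, one_smul]))
  have hn0 : ι0 n ≠ 1 := ne1 a00 ev0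
  have hn1 : ι1 n ≠ 1 := ne1 a12 ev2
  have h01 : ι0 n * ι1 n ≠ 1 := ne1 (by rw [act_mul, a10, a00]) ev0
  have h10 : ι1 n * ι0 n ≠ 1 := ne1 (by rw [act_mul, a00, act_smul, a10]) ev0
  obtain ⟨X0, hX0⟩ := C.le (ι0 x)
  obtain ⟨Y0, hY0⟩ := C.le (ι0 y)
  obtain ⟨X1, hX1⟩ := C.le (ι1 x)
  obtain ⟨Y1, hY1⟩ := C.le (ι1 y)
  obtain ⟨T0, hT0, hTT0, hXY0, hTX0, hTY0, s0, hs0, hXX0⟩ := C.quat (x := ι0 x) (y := ι0 y) (n := ι0 n)
    (by rw [← map_mul, hxx]) (by rw [← map_mul, hyy]) (by rw [← map_mul, ← map_mul, ← map_mul, hxy]) hX0 hY0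
  obtain ⟨T1, hT1, hTT1, hXY1, hTX1, hTY1, s1, hs1, hXX1⟩ := C.quat (x := ι1 x) (y := ι1 y) (n := ι1 n)
    (by rw [← map_mul, hxx]) (by rw [← map_mul, hyy]) (by rw [← map_mul, ← map_mul, ← map_mul, hxy]) hX1 hY1
  obtain ⟨hc, fix0⟩ := C.fix_line U hF ι0 (ι1 n) hu3 hux huy hnc hn0 hn1 h01 hk0 hX0 hY0 hT0 hTT0
    hXY0 hTX0 hTY0 hs0 hXX0 hT1 hTT1
  obtain ⟨-, fix1⟩ := C.fix_line U hF ι1 (ι0 n) hu3 hux huy hnc hn1 hn0 h10 hk1 hX1 hY1 hT1 hTT1
    hXY1 hTX1 hTY1 hs1 hXX1 hT0 hTT0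
  obtain ⟨v, hv, hv0, hv1, -⟩ := U.exists_line hF hTT0 hTT1 hc (C.not_sc hT0 hn0) (C.not_sc hT1 hn1)
    (C.not_sc (a := ι0 n * ι1 n) (by rw [map_mul, hT0, hT1, map_mul]) h01) (s := 1) (s' := 1)
    (Or.inl rfl) (Or.inl rfl)
  rw [one_smul] at hv0 hv1
  have hvne : v ≠ 0 := fun e => by rw [e, U.zero_l] at hv; exact zero_ne_one hv
  let S : Subgroup (SU 3 F 3) :=
    { carrier := {a | ∃ z, g z = ψ a ∧ act z v = v}
      one_mem' := ⟨1, by rw [map_one, map_one], act_one _⟩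
      mul_mem' := fun {a b} ⟨z, hz, hzv⟩ ⟨w, hw, hwv⟩ =>
        ⟨z * w, by rw [map_mul, map_mul, hz, hw], by rw [act_mul, hwv, hzv]⟩
      inv_mem' := fun {a} ⟨z, hz, hzv⟩ => ⟨z⁻¹, by rw [map_inv, map_inv, hz], act_inv_eq hzv⟩ }
  have hS : S = ⊤ := by
    refine U.blocks_gen (U.exists_alpha_three hF) S (fun A => ?_) (fun A => ?_)
    · have : S.comap ι0 = ⊤ := U.gen_cubes hF _ fun a ha => by
        obtain ⟨z, hz, -, hzv⟩ := fix0 v hv0 hv1 hvne a ha
        exact ⟨z, hz, hzv⟩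
      exact (this ▸ Subgroup.mem_top A : A ∈ S.comap ι0)
    · have : S.comap ι1 = ⊤ := U.gen_cubes hF _ fun a ha => by
        obtain ⟨z, hz, -, hzv⟩ := fix1 v hv1 hv0 hvne a ha
        exact ⟨z, hz, hzv⟩
      exact (this ▸ Subgroup.mem_top A : A ∈ S.comap ι1)
  have hall : ∀ a, ∃ z, g z = ψ a ∧ act z v = v := fun a => (hS ▸ Subgroup.mem_top a : a ∈ S)
  choose f hfg hfv using hall
  have uniq : ∀ {z w : SU 4 F 3}, g z = g w → act z v = v → act w v = v → z = w := by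
    intro z w e ez ew
    obtain ⟨s, hs, rfl⟩ := C.ratio e
    rw [act_mul, ew] at ez
    rw [hs.eq_one_of_fix hvne ez, one_mul]
  exact ⟨MonoidHom.mk' f fun a b => uniq (by rw [map_mul, hfg, hfg, hfg, map_mul]) (hfv _)
    (by rw [act_mul, hfv, hfv]), v, hv, hfg, hfv⟩

end UF

end CfsgLib.Chev.CT.Phan
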