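/-
The frame of a lifted copy of `SU 3` and the twist describing it.
-/
import Cfsg.Agent.Lib.Chev.CT.Phan.Three.Window
import Cfsg.Agent.Lib.Chev.CT.Phan.Blocks

set_option autoImplicit false

namespace CfsgLib.Chev.CT.Phan

open Matrix Cfsg

universe u v

variable {F : Type u} [Field F] {G : Type v} [Group G]

namespace UF

variable (U : UF F 3)
include U

/-- An orthonormal frame is, up to scalars, the image of the standard one. -/
theorem exists_frame (e : Fin 4 → Fin 4 → F) (h : ∀ k l, hf 3 (e k) (e l) = if k = l then 1 else 0) :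
    ∃ γ : SU 4 F 3, ∀ k : Fin 4, ∃ c : F, c ≠ 0 ∧ act γ (ev F 4 (k : ℕ)) = c • e k := by
  set M : Matrix (Fin 4) (Fin 4) F := Matrix.of fun r k => e k r with hM
  have hMM : Mᵀ * M.map U.σ = 1 := by
    ext k l
    rw [Matrix.one_apply, ← h k l, U.hf_eq]
    simp [hM, Matrix.mul_apply]
  have hd : M.det * U.σ M.det = 1 := by
    have := congrArg Matrix.det hMM
    rwa [det_mul, det_transpose, det_one, ← RingHom.mapMatrix_apply, ← RingHom.map_det] at this
  set d := M.det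
  have hd0 : d ≠ 0 := fun e => by simp [e] at hd
  set δ : Fin 4 → F := ![1, 1, 1, U.σ d] with hδ
  have hδ1 : ∀ k, U.nm (δ k) = 1 := fun k => by
    fin_cases k <;> simp [hδ, U.nm_one, U.nm_sigma]
    exact hd
  have hdet : (M * diagonal δ).det = 1 := by
    rw [det_mul, det_diagonal]
    simpa [hδ, Fin.prod_univ_four] using hd
  have hv : ∀ u : Fin 4 → F, (M * diagonal δ) *ᵥ u = fun r => ∑ k, δ k * u k * e k r := fun u => by
    funext r
    rw [← mulVec_mulVec]
    simp [hM, mulVec, dotProduct, diagonal_apply]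
    exact Finset.sum_congr rfl fun k _ => by ring
  have hform : ∀ u v, hermForm 4 F 3 ((M * diagonal δ) *ᵥ u) ((M * diagonal δ) *ᵥ v) =
      hermForm 4 F 3 u v := by
    intro u v
    have e1 : ∀ u : Fin 4 → F, (fun r => ∑ k, δ k * u k * e k r) = (δ 0 * u 0) • e 0 + (δ 1 * u 1) • e 1
        + (δ 2 * u 2) • e 2 + (δ 3 * u 3) • e 3 := fun u => by
      funext r; simp [Fin.sum_univ_four]
    rw [hv, hv, e1, e1]
    show hf 3 _ _ = hf 3 u v
    simp only [U.add_l, U.add_r, U.smul_l, U.smul_r, h, U.hf_eq u v, Fin.sum_univ_four]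
    have h0 := hδ1 0; have h1 := hδ1 1; have h2 := hδ1 2; have h3 := hδ1 3
    simp only [nm] at h0 h1 h2 h3
    simp
    linear_combination (u 0 * U.σ (v 0)) * h0 + (u 1 * U.σ (v 1)) * h1 + (u 2 * U.σ (v 2)) * h2 +
      (u 3 * U.σ (v 3)) * h3
  refine ⟨⟨⟨M * diagonal δ, hdet⟩, hform⟩, fun k => ⟨δ k, fun e0 => by simpa [e0, nm] using hδ1 k, ?_⟩⟩
  show (M * diagonal δ) *ᵥ ev F 4 (k : ℕ) = _
  rw [hv]
  funext r
  rw [Finset.sum_eq_single k]
  · simp [ev]
  · intro l _ hl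
    have : (l : ℕ) ≠ k := fun e => hl (Fin.ext e)
    simp [ev, this]
  · simp

variable [Fintype F] (hF : Fintype.card F = 9)
include hF

omit hF in
theorem eigen_perp {N : ℕ} {t : SU N F 3} {x y : Fin N → F} {s s' : F} (hx : act t x = s • x)
    (hy : act t y = s' • y) (hss : s * U.σ s' ≠ 1) : hf 3 x y = 0 := by
  have h := hf_act t x y
  rw [hx, hy, U.smul_l, U.smul_r] at h
  exact (mul_eq_zero.1 (show (s * U.σ s' - 1) * hf 3 x y = 0 by linear_combination h)).resolve_left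
    (sub_ne_zero.2 hss)

/-- A block commuting with an involution fixes the second vector of its fixed plane. -/
theorem block_fix {T T' : SU 4 F 3} (hTT' : T * T' = T' * T) (hT' : T' * T' = 1) {v w : Fin 4 → F}
    (hv : hf 3 v v = 1) (hTv : act T v = v) (hT'v : act T' v = v) (hTw : act T w = w)
    (hT'w : act T' w = (-1 : F) • w) (hw : hf 3 w w = 1)
    (hvg : ∀ x, act T x = x → act T' x = x → ∃ c : F, x = c • v)
    (hwg : ∀ x, act T x = x → act T' x = (-1 : F) • x → ∃ c : F, x = c • w)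
    (f : SU 2 F 3 →* SU 4 F 3) (hfv : ∀ a, act (f a) v = v) (hfT : ∀ a, f a * T = T * f a) :
    ∀ a, act (f a) w = w := by
  have h3 := three_eq_zero hF
  have hS : (Fx F 3 4 w).comap f = ⊤ := by
    refine U.gen_cubes hF _ fun a ha => ?_
    set y := act (f a) w with hy
    have hTy : act T y = y := by rw [hy, ← act_mul, ← hfT, act_mul, hTw]
    have hTc : ∀ x, act T (act T' x) = act T' (act T x) := fun x => by rw [← act_mul, hTT', act_mul]
    have hTT : ∀ x, act T' (act T' x) = x := fun x => by rw [← act_mul, hT', act_one]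
    obtain ⟨a1, e1⟩ := hvg (y + act T' y) (by rw [act_add, hTc, hTy]) (by rw [act_add, hTT]; abel)
    obtain ⟨b1, e2⟩ := hwg (y - act T' y) (by rw [act_sub, hTc, hTy])
      (by rw [act_sub, hTT, neg_one_smul]; abel)
    have hyv : hf 3 y v = 0 := by
      conv_lhs => rw [hy, ← hfv a, hf_act]
      exact U.eigen_perp hT'w (show act T' v = (1 : F) • v by rw [hT'v, one_smul])
        (by rw [map_one, mul_one]; exact neg_one_ne_one hF)
    have hsum : y = (-a1) • v + (-b1) • w := by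
      rw [neg_smul, neg_smul, ← e1, ← e2]
      funext k
      simp only [Pi.add_apply, Pi.sub_apply, Pi.neg_apply]
      linear_combination (y k) * h3
    have hwv : hf 3 w v = 0 := U.eigen_perp hT'w (show act T' v = (1 : F) • v by rw [hT'v, one_smul])
      (by rw [map_one, mul_one]; exact neg_one_ne_one hF)
    rw [hsum, U.add_l, U.smul_l, U.smul_l, hv, hwv, mul_zero, add_zero, mul_one] at hyv
    rw [hyv, zero_smul, zero_add] at hsum
    have h3' : act (f a ^ 3) w = ((-b1) ^ 3) • w := by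
      simp only [pow_succ, pow_zero, one_mul, act_mul, ← hy, hsum, act_smul, smul_smul, mul_assoc]
    rw [← map_pow, ha, map_one, act_one] at h3'
    have hw0 : w ≠ 0 := fun e => by rw [e, U.zero_l] at hw; exact zero_ne_one hw
    have hc : (-b1) ^ 3 = 1 := smul_left_injective F hw0 (by simpa using h3'.symm)
    show act (f a) w = w
    rw [← hy, hsum, eq_one_of_cube hF hc, one_smul]
  exact fun a => (hS ▸ Subgroup.mem_top a : a ∈ (Fx F 3 4 w).comap f)

/-- An injective endomorphism preserving the blocks is a twist. -/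
theorem exists_twist (β : SU 3 F 3 →* SU 3 F 3) (hβ : Function.Injective β)
    (h0 : ∀ a : SU 2 F 3, act (β (embSU 0 (by norm_num) U a)) (ev F 3 2) = ev F 3 2)
    (h1 : ∀ a : SU 2 F 3, act (β (embSU 1 (by norm_num) U a)) (ev F 3 0) = ev F 3 0) :
    ∃ (τ : F ≃+* F) (d : Fin 3 → F) (hd : ∀ i, U.nm (d i) = 1), ∀ A, β A = twist U τ d hd A := by
  set ι0 : SU 2 F 3 →* SU 3 F 3 := embSU 0 (by norm_num) U
  set ι1 : SU 2 F 3 →* SU 3 F 3 := embSU 1 (by norm_num) U
  have i0 : Function.Injective ι0 := embSU_injective _ _ U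
  have i1 : Function.Injective ι1 := embSU_injective _ _ U
  have m0 : ∀ a, ∃ b, ι0 b = β (ι0 a) := fun a => mem_range_embSU 0 (by norm_num) U (by
    rw [FB02_eq]; exact h0 a)
  have m1 : ∀ a, ∃ b, ι1 b = β (ι1 a) := fun a => mem_range_embSU 1 (by norm_num) U (by
    rw [FB13_eq]; exact h1 a)
  choose f0 e0 using m0
  choose f1 e1 using m1
  have f0i : Function.Injective f0 := fun a b e => i0 (hβ (by rw [← e0, ← e0, e]))
  have f1i : Function.Injective f1 := fun a b e => i1 (hβ (by rw [← e1, ← e1, e]))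
  let β0 : SU 2 F 3 ≃* SU 2 F 3 := MulEquiv.ofBijective
    (MonoidHom.mk' f0 fun a b => i0 (by rw [map_mul ι0 (f0 a), e0, e0, e0, map_mul, map_mul]))
    ⟨f0i, Finite.surjective_of_injective f0i⟩
  let β1 : SU 2 F 3 ≃* SU 2 F 3 := MulEquiv.ofBijective
    (MonoidHom.mk' f1 fun a b => i1 (by rw [map_mul ι1 (f1 a), e1, e1, e1, map_mul, map_mul]))
    ⟨f1i, Finite.surjective_of_injective f1i⟩
  have E0 : ∀ a, β (ι0 a) = ι0 (β0 a) := fun a => (e0 a).symm
  have E1 : ∀ a, β (ι1 a) = ι1 (β1 a) := fun a => (e1 a).symm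
  have hcenter := U.center_three hF
  have C : IsChart (MonoidHom.id (SU 3 F 3)) (FB F 3 3 0 2) (FB F 3 3 1 3) ⊤ :=
    ⟨MonoidHom.range_eq_top.2 Function.surjective_id, fun x hx => by
      rw [show x = 1 from MonoidHom.mem_ker.1 hx]; exact one_mem _, Subgroup.map_id _, Subgroup.map_id _⟩
  have hT0 : ∀ A : SU 2 F 3, A.1.1 1 0 = 0 → (β0 A).1.1 1 0 = 0 := by
    intro A hA
    obtain ⟨a, b, h, rfl⟩ := U.su2_surj A
    have hb : b = 0 := by simpa [su2_coe] using hA
    subst hb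
    obtain ⟨a', b', h', e⟩ := U.su2_surj (β0 (U.su2 a 0 h))
    have hb' : b' = 0 := by
      refine C.diag_of_normalize U h' fun y hy => ?_
      obtain ⟨c, rfl⟩ := mem_range_embSU (N := 3) (m := 2) 1 (by norm_num) U hy
      obtain ⟨c', rfl⟩ := β1.surjective c
      have hm := C.conj_right U h (y := ι1 c') (embSU_mem (N := 3) (m := 2) 1 (by norm_num) U c')
      obtain ⟨c'', hc''⟩ := mem_range_embSU (N := 3) (m := 2) 1 (by norm_num) U hm
      simp only [MonoidHom.id_apply] at hc'' ⊢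
      rw [← e]
      show ι0 (β0 (U.su2 a 0 h)) * ι1 (β1 c') * (ι0 (β0 (U.su2 a 0 h)))⁻¹ ∈ FB F 3 3 1 3
      rw [← E0, ← E1, ← map_inv, ← map_mul, ← map_mul, ← hc'']
      show β (ι1 c'') ∈ FB F 3 3 1 3
      rw [E1]; exact embSU_mem (N := 3) (m := 2) 1 (by norm_num) U _
    rw [e]; simp [su2_coe, hb']
  obtain ⟨τ0, ν0, hν0, hent0⟩ := U.aut_torus_three hF β0 hT0
  obtain ⟨i, hi, hσi, hni⟩ := U.exists_sq_neg_one
  have key0 : ∀ (a b : F) (h : U.nm a + U.nm b = 1), ∃ h', β0 (U.su2 a b h) = U.su2 (τ0 a) (ν0 * τ0 b) h' := by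
    intro a b h
    obtain ⟨a', b', h', e⟩ := U.su2_surj (β0 (U.su2 a b h))
    obtain ⟨x1, x2⟩ := hent0 (U.su2 a b h)
    rw [e] at x1 x2
    simp [su2_coe] at x1 x2
    subst x1; subst x2
    exact ⟨h', e⟩
  have hτn : ∀ (τ : F ≃+* F) x, U.nm (τ x) = τ (U.nm x) := fun τ x => by
    simp only [UF.nm, U.hσ, ← map_pow, ← map_mul]
  have hx : U.nm i + U.nm 0 = 1 := by rw [hni, U.nm_zero, add_zero]
  have hj : U.nm (τ0 i) + U.nm 0 = 1 := by rw [hτn, hni, map_one, U.nm_zero, add_zero]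
  have E0x : β (ι0 (U.su2 i 0 hx)) = ι0 (U.su2 (τ0 i) 0 hj) := by
    obtain ⟨h', e⟩ := key0 i 0 hx
    rw [E0, e]; exact congrArg ι0 (U.su2_eq rfl (by simp))
  have hj1 : τ0 i ≠ 1 := fun e => by
    have h1 : i = 1 := τ0.injective (e.trans (map_one τ0).symm)
    rw [h1, one_mul] at hi
    exact neg_one_ne_one hF hi.symm
  have hT1 : ∀ A : SU 2 F 3, A.1.1 1 0 = 0 → (β1 A).1.1 1 0 = 0 := by
    intro A hA
    obtain ⟨a, b, h, rfl⟩ := U.su2_surj A
    have hb : b = 0 := by simpa [su2_coe] using hA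
    subst hb
    obtain ⟨a', b', h', e⟩ := U.su2_surj (β1 (U.su2 a 0 h))
    have p1 : U.nm a + U.nm (i * 0) = 1 := by rw [mul_zero]; exact h
    have p2 : U.nm a' + U.nm (τ0 i * b') = 1 := by
      rw [U.nm_mul, hτn, hni, map_one, one_mul]; exact h'
    have r := congrArg β (U.rot_rel hx h p1)
    change β (ι0 _ * ι1 _) = β (ι1 _ * ι0 _) at r
    rw [U.su2_eq (h' := h) rfl (mul_zero i), map_mul, map_mul, E0x, E1, e] at r
    have r' : ι1 (U.su2 a' b' h') * ι0 (U.su2 (τ0 i) 0 hj) = ι1 (U.su2 a' (τ0 i * b') p2) * ι0 (U.su2 (τ0 i) 0 hj) :=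
      r.symm.trans (U.rot_rel hj h' p2)
    have hb' := (U.su2_inj (i1 (mul_right_cancel r'))).2
    rw [e]
    have : (τ0 i - 1) * b' = 0 := by linear_combination -hb'
    simp [su2_coe, (mul_eq_zero.1 this).resolve_left (sub_ne_zero.2 hj1)]
  obtain ⟨τ1, ν1, hν1, hent1⟩ := U.aut_torus_three hF β1 hT1
  have key1 : ∀ (a b : F) (h : U.nm a + U.nm b = 1), ∃ h', β1 (U.su2 a b h) = U.su2 (τ1 a) (ν1 * τ1 b) h' := by
    intro a b h
    obtain ⟨a', b', h', e⟩ := U.su2_surj (β1 (U.su2 a b h))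
    obtain ⟨x1, x2⟩ := hent1 (U.su2 a b h)
    rw [e] at x1 x2
    simp [su2_coe] at x1 x2
    subst x1; subst x2
    exact ⟨h', e⟩
  have hτ : τ1 = τ0 := by
    refine U.aut_ext hF hi hσi τ1 τ0 ?_
    have h01 : U.nm (0 : F) + U.nm 1 = 1 := by rw [U.nm_zero, U.nm_one, zero_add]
    have hp : U.nm (0 : F) + U.nm (i * 1) = 1 := by rw [mul_one, hni, U.nm_zero, zero_add]
    have r := congrArg β (U.rot_rel hx h01 hp)
    change β (ι0 _ * ι1 _) = β (ι1 _ * ι0 _) at r
    obtain ⟨q1, k1⟩ := key1 0 1 h01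
    obtain ⟨q2, k2⟩ := key1 0 (i * 1) hp
    rw [map_mul, map_mul, E0x, E1, E1, k1, k2] at r
    have p2 : U.nm (τ1 0) + U.nm (τ0 i * (ν1 * τ1 1)) = 1 := by
      simp [U.nm_zero, U.nm_mul, hτn, hni, hν1]
    have r' := (U.su2_inj (i1 (mul_right_cancel ((U.rot_rel hj q1 p2).symm.trans r)))).2
    simp only [map_one, mul_one] at r'
    have hν10 : ν1 ≠ 0 := fun e => by rw [e, U.nm_zero] at hν1; exact zero_ne_one hν1
    exact mul_left_cancel₀ hν10 (by linear_combination -r')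
  subst hτ
  let d : Fin 3 → F := ![1, ν0, ν0 * ν1]
  have hd : ∀ k, U.nm (d k) = 1 := fun k => by fin_cases k <;> simp [d, U.nm_one, U.nm_mul, hν0, hν1]
  have hν00 : ν0 ≠ 0 := fun e => by rw [e, U.nm_zero] at hν0; exact zero_ne_one hν0
  refine ⟨τ1, d, hd, fun A => ?_⟩
  let S : Subgroup (SU 3 F 3) := MonoidHom.eqLocus β (twist U τ1 d hd)
  have blockeq : ∀ (o : ℕ) (ho : o + 2 ≤ 3) (ν c : F), c ≠ 0 → U.nm ν = 1 →
      d ⟨o, by omega⟩ = c → d ⟨o + 1, by omega⟩ = c * ν → ∀ a b (h : U.nm a + U.nm b = 1) h',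
        twist U τ1 d hd (embSU o ho U (U.su2 a b h)) = embSU o ho U (U.su2 (τ1 a) (ν * τ1 b) h') := by
    intro o ho ν c hc hν d0 d1 a b h h'
    rw [U.twist_embSU o ho τ1 d hd ![1, ν] (fun k => by fin_cases k <;> simp [U.nm_one, hν]) c hc
      (fun k => by fin_cases k <;> simp [d0, d1]) _,
      U.twist_su2 τ1 ![1, ν] _ a b h (by simpa using h')]
    exact congrArg _ (U.su2_eq rfl (by simp))
  have hS : S = ⊤ := by
    refine U.blocks_gen (U.exists_alpha_three hF) S (fun a => ?_) (fun a => ?_)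
    · obtain ⟨p, r, h, rfl⟩ := U.su2_surj a
      obtain ⟨h', e⟩ := key0 p r h
      show β (ι0 _) = twist U τ1 d hd (ι0 _)
      rw [E0, e, blockeq 0 (by norm_num) ν0 1 one_ne_zero hν0 (by simp [d]) (by simp [d]) p r h h']
    · obtain ⟨p, r, h, rfl⟩ := U.su2_surj a
      obtain ⟨h', e⟩ := key1 p r h
      show β (ι1 _) = twist U τ1 d hd (ι1 _)
      rw [E1, e, blockeq 1 (by norm_num) ν1 ν0 hν00 hν1 (by simp [d]) (by simp [d]) p r h h']
  exact (hS ▸ Subgroup.mem_top A : A ∈ S)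

/-- A copy of `SU 3` under an image of `SU 4` is a conjugate of a twist of the standard one. -/
theorem exists_std {g : SU 4 F 3 →* G} {ψ : SU 3 F 3 →* G} (C : Cov g ψ) :
    ∃ (γ : SU 4 F 3) (τ : F ≃+* F) (d : Fin 3 → F) (hd : ∀ i, U.nm (d i) = 1),
      ∀ a, g (γ * embSU 0 (by norm_num) U (twist U τ d hd a) * γ⁻¹) = ψ a := by
  obtain ⟨h, v, hv, hgh, hhv⟩ := U.exists_lift hF C
  obtain ⟨i, x, y, u, n, hx, hy, hn, hi, hσi, ex, ey, en, -, -, -, hnn, hnc, -, -, -⟩ := U.exists_quat hF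
  set ι0 : SU 2 F 3 →* SU 3 F 3 := embSU 0 (by norm_num) U with hι0
  set ι1 : SU 2 F 3 →* SU 3 F 3 := embSU 1 (by norm_num) U with hι1
  have a02 : act (ι0 n) (ev F 3 2) = ev F 3 2 := embSU_mem (N := 3) (m := 2) 0 (by norm_num) U _ 2 (by norm_num) (by omega)
  have a10 : act (ι1 n) (ev F 3 0) = ev F 3 0 := embSU_mem (N := 3) (m := 2) 1 (by norm_num) U _ 0 (by norm_num) (by omega)
  have a00 : act (ι0 n) (ev F 3 0) = (-1 : F) • ev F 3 0 := by rw [hι0, en, U.su2_act_ev0]; simp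
  have a01 : act (ι0 n) (ev F 3 1) = (-1 : F) • ev F 3 1 := by
    rw [hι0, en, show ev F 3 1 = ev F 3 (0 + 1) from rfl, U.su2_act_ev1]; simp
  have a11 : act (ι1 n) (ev F 3 1) = (-1 : F) • ev F 3 1 := by rw [hι1, en, U.su2_act_ev0]; simp
  have a12 : act (ι1 n) (ev F 3 2) = (-1 : F) • ev F 3 2 := by
    rw [hι1, en, show ev F 3 2 = ev F 3 (1 + 1) from rfl, U.su2_act_ev1]; simp
  have ev0 : ev F 3 0 ≠ 0 := fun e => by simpa [ev] using congrFun e ⟨0, by norm_num⟩
  have ev2 : ev F 3 2 ≠ 0 := fun e => by simpa [ev] using congrFun e ⟨2, by norm_num⟩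
  have ne1 : ∀ {z : SU 3 F 3} {r : ℕ}, act z (ev F 3 r) = (-1 : F) • ev F 3 r → ev F 3 r ≠ 0 → z ≠ 1 :=
    fun {z r} h hr e => neg_one_ne_one hF (smul_left_injective F hr (by
      show (-1 : F) • ev F 3 r = (1 : F) • ev F 3 r
      rw [← h, e, act_one, one_smul]))
  have hcomm : ι0 n * ι1 n = ι1 n * ι0 n := by
    refine su_ext fun r hr => ?_
    interval_cases r <;> simp only [act_mul, a00, a01, a02, a10, a11, a12, act_smul]
  set s0 := h (ι0 n)
  set s1 := h (ι1 n)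
  have hs0 : s0 * s0 = 1 := by simp only [s0, ← map_mul, hnn, map_one]
  have hs1 : s1 * s1 = 1 := by simp only [s1, ← map_mul, hnn, map_one]
  have hs01 : s0 * s1 = s1 * s0 := by simp only [s0, s1, ← map_mul, hcomm]
  have n0 : ¬ IsSc s0 := C.not_sc (hgh _) (ne1 a00 ev0)
  have n1 : ¬ IsSc s1 := C.not_sc (hgh _) (ne1 a12 ev2)
  have n01 : ¬ IsSc (s0 * s1) := by
    refine C.not_sc (a := ι0 n * ι1 n) ?_ (ne1 (by rw [act_mul, a10, a00]) ev0)
    rw [map_mul, hgh, hgh, map_mul]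
  have hm : (-1 : F) ≠ 1 := neg_one_ne_one hF
  obtain ⟨e0, u0, p0, q0, g0⟩ := U.exists_line hF hs0 hs1 hs01 n0 n1 n01 (s := -1) (s' := 1) (Or.inr rfl) (Or.inl rfl)
  obtain ⟨e1, u1, p1, q1, -⟩ := U.exists_line hF hs0 hs1 hs01 n0 n1 n01 (s := -1) (s' := -1) (Or.inr rfl) (Or.inr rfl)
  obtain ⟨e2, u2, p2, q2, g2⟩ := U.exists_line hF hs0 hs1 hs01 n0 n1 n01 (s := 1) (s' := -1) (Or.inl rfl) (Or.inr rfl)
  obtain ⟨v', -, -, -, g3⟩ := U.exists_line hF hs0 hs1 hs01 n0 n1 n01 (s := 1) (s' := 1) (Or.inl rfl) (Or.inl rfl)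
  simp only [one_smul] at q0 g0 p2 g2 g3
  have v0 : act s0 v = v := hhv _
  have v1 : act s1 v = v := hhv _
  obtain ⟨cv, ecv⟩ := g3 v v0 v1
  have hcv : cv ≠ 0 := fun e => by rw [ecv, e, zero_smul, U.zero_l] at hv; exact zero_ne_one hv
  have hvg : ∀ x, act s0 x = x → act s1 x = x → ∃ c : F, x = c • v := fun x a b => by
    obtain ⟨c, hc⟩ := g3 x a b
    exact ⟨c / cv, by rw [hc, ecv, smul_smul, div_mul_cancel₀ _ hcv]⟩
  have f0 : ∀ a, act (h (ι0 a)) e2 = e2 := U.block_fix hF hs01 hs1 hv v0 v1 p2 q2 u2 hvg g2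
    (h.comp ι0) (fun a => hhv _) (fun a => by
      show h (ι0 a) * h (ι0 n) = h (ι0 n) * h (ι0 a)
      rw [← map_mul, ← map_mul, ← map_mul, ← map_mul, hnc])
  have f1 : ∀ a, act (h (ι1 a)) e0 = e0 := U.block_fix hF hs01.symm hs0 hv v1 v0 q0 p0 u0
    (fun x a b => hvg x b a) (fun x a b => g0 x b a)
    (h.comp ι1) (fun a => hhv _) (fun a => by
      show h (ι1 a) * h (ι1 n) = h (ι1 n) * h (ι1 a)
      rw [← map_mul, ← map_mul, ← map_mul, ← map_mul, hnc])
  have P : ∀ {t : SU 4 F 3} {x y : Fin 4 → F}, act t x = (-1 : F) • x → act t y = y →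
      hf 3 x y = 0 ∧ hf 3 y x = 0 := fun {t x y} a b => by
    have := U.eigen_perp a (show act t y = (1 : F) • y by rw [b, one_smul]) (by rw [map_one, mul_one]; exact hm)
    exact ⟨this, U.swap_eq_zero this⟩
  obtain ⟨γ, hγ⟩ := U.exists_frame ![e0, e1, e2, v] (fun k l => by
    fin_cases k <;> fin_cases l <;> simp [hv, u0, u1, u2, (P q1 q0).1, (P q1 q0).2, (P p0 p2).1,
      (P p0 p2).2, (P p0 v0).1, (P p0 v0).2, (P p1 p2).1, (P p1 p2).2, (P p1 v0).1, (P p1 v0).2,
      (P q2 v1).1, (P q2 v1).2])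
  have fixev : ∀ (k : Fin 4) (z : SU 4 F 3), act z ((![e0, e1, e2, v] : Fin 4 → Fin 4 → F) k) = ![e0, e1, e2, v] k →
      act (γ⁻¹ * z * γ) (ev F 4 (k : ℕ)) = ev F 4 (k : ℕ) := by
    intro k z hz
    obtain ⟨c, -, hc⟩ := hγ k
    rw [act_mul, act_mul, hc, act_smul, hz, ← hc, act_inv_act]
  set h' : SU 3 F 3 →* SU 4 F 3 := (MulAut.conj γ⁻¹).toMonoidHom.comp h with hh'
  have hh'a : ∀ a, h' a = γ⁻¹ * h a * γ := fun a => by simp [hh', MulAut.conj_apply]
  have hfix3 : ∀ a, act (h' a) (ev F 4 3) = ev F 4 3 := fun a => by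
    rw [hh'a]; exact fixev 3 _ (hhv a)
  have hrange : ∀ a, h' a ∈ FB F 3 4 0 (0 + 3) := fun a k hk hk' => by
    obtain rfl : k = 3 := by omega
    exact hfix3 a
  have hb : ∀ a, ∃ b : SU 3 F 3, embSU 0 (by norm_num) U b = h' a := fun a =>
    mem_range_embSU 0 (by norm_num) U (hrange a)
  choose β eβ using hb
  have iE : Function.Injective (embSU (F := F) (q := 3) (N := 4) (m := 3) 0 (by norm_num) U) :=
    embSU_injective _ _ U
  let βh : SU 3 F 3 →* SU 3 F 3 := MonoidHom.mk' β fun a b => iE (by rw [map_mul, eβ, eβ, eβ, map_mul])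
  have hhi : Function.Injective h := fun a b e => C.inj (by rw [← hgh, ← hgh, e])
  have hβi : Function.Injective βh := fun a b e => by
    have := congrArg (embSU (N := 4) 0 (by norm_num) U) e
    rw [show βh a = β a from rfl, show βh b = β b from rfl, eβ, eβ] at this
    exact hhi ((MulAut.conj γ⁻¹).injective this)
  obtain ⟨τ, d, hd, hβd⟩ := U.exists_twist hF βh hβi
    (fun a => U.emb_fix (N := 4) (m := 3) 0 (by norm_num) (k := 2) (by norm_num) (by
      show act (embSU _ _ U (β _)) _ = _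
      rw [eβ, hh'a]; exact fixev 2 _ (f0 a)))
    (fun a => U.emb_fix (N := 4) (m := 3) 0 (by norm_num) (k := 0) (by norm_num) (by
      show act (embSU _ _ U (β _)) _ = _
      rw [eβ, hh'a]; exact fixev 0 _ (f1 a)))
  refine ⟨γ, τ, d, hd, fun a => ?_⟩
  rw [← hβd, show βh a = β a from rfl, eβ, hh'a, ← hgh a]
  congr 1; group

/-- Two agreeing copies of `SU 3` under an image of `SU 4` come from one homomorphism. -/
theorem exists_window {g : SU 4 F 3 →* G} {ψ ψ' : SU 3 F 3 →* G} (C : Cov g ψ) (C' : Cov g ψ')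
    (hagree : ∀ a : SU 2 F 3, ψ' (embSU 0 (by norm_num) U a) = ψ (embSU 1 (by norm_num) U a))
    (hcomm : ∀ a b : SU 2 F 3, ψ (embSU 0 (by norm_num) U a) * ψ' (embSU 1 (by norm_num) U b) =
      ψ' (embSU 1 (by norm_num) U b) * ψ (embSU 0 (by norm_num) U a)) :
    ∃ f : SU 4 F 3 →* G, (∀ a, f (embSU 0 (by norm_num) U a) = ψ a) ∧
      ∀ a, f (embSU 1 (by norm_num) U a) = ψ' a := by
  obtain ⟨γ, τ, d, hd, hψ⟩ := U.exists_std hF C
  set g' : SU 4 F 3 →* G := g.comp (MulAut.conj γ).toMonoidHom with hg'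
  have hgψ : ∀ a, g' (embSU 0 (by norm_num) U (twist U τ d hd a)) = ψ a := fun a => by
    simpa [hg', MulAut.conj_apply] using hψ a
  have hker : ∀ z, g' z = 1 → IsSc z := fun z hz => by
    have h1 := C.ker (γ * z * γ⁻¹) (by simpa [hg', MulAut.conj_apply] using hz)
    have h2 : z = γ * z * γ⁻¹ := by
      calc z = γ⁻¹ * (γ * z * γ⁻¹ * γ) := by group
        _ = γ⁻¹ * (γ * (γ * z * γ⁻¹)) := by rw [h1.comm γ]
        _ = _ := by group
    rw [h2]; exact h1
  have C'' : Cov g' ψ' := ⟨hker, C'.inj, fun a => by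
    obtain ⟨z, hz⟩ := C'.le a
    exact ⟨γ⁻¹ * z * γ, by simp [hg', MulAut.conj_apply, ← hz, mul_assoc]⟩, C'.center⟩
  obtain ⟨h1, v', hv', hgh, hhv⟩ := U.exists_lift hF C''
  set ι0 : SU 2 F 3 →* SU 3 F 3 := embSU 0 (by norm_num) U with hι0
  set ι1 : SU 2 F 3 →* SU 3 F 3 := embSU 1 (by norm_num) U with hι1
  set h0 : SU 3 F 3 →* SU 4 F 3 :=
    ((embSU 0 (by norm_num) U).comp (twist U τ d hd)) with hh0
  have hgh0 : ∀ a, g' (h0 a) = ψ a := hgψ
  have hmid : ∀ a, h1 (ι0 a) = h0 (ι1 a) := by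
    have : MonoidHom.eqLocus (h1.comp ι0) (h0.comp ι1) = ⊤ := U.gen_cubes hF _ fun a ha => by
      obtain ⟨s, hs, e⟩ := C''.ratio (z := h1 (ι0 a)) (z' := h0 (ι1 a)) (by rw [hgh, hgh0]; exact hagree a)
      have e3 : (s * h0 (ι1 a)) ^ 3 = 1 := by rw [← e, ← map_pow, ← map_pow, ha, map_one, map_one]
      rw [Commute.mul_pow (hs.comm _), ← map_pow, ← map_pow, ha, map_one, map_one, mul_one] at e3
      show h1 (ι0 a) = h0 (ι1 a)
      rw [e, hs.eq_one_of_cube e3, one_mul]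
    intro a; exact (this ▸ Subgroup.mem_top a : a ∈ MonoidHom.eqLocus (h1.comp ι0) (h0.comp ι1))
  obtain ⟨i, hi, hσi, hni⟩ := U.exists_sq_neg_one
  have hx : U.nm i + U.nm 0 = 1 := by rw [hni, U.nm_zero, add_zero]
  have hy : U.nm (0 : F) + U.nm 1 = 1 := by rw [U.nm_zero, U.nm_one, zero_add]
  have hsurj : ∀ b : SU 2 F 3, ∃ a, h0 (ι0 a) = embSU 0 (by norm_num) U b := by
    have he : ∀ k : Fin 2, U.nm (![d 0, d 1] k) = 1 := fun k => by fin_cases k <;> simp [hd]
    intro b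
    obtain ⟨a, ha⟩ := Finite.surjective_of_injective (twist_injective U τ ![d 0, d 1] he) b
    refine ⟨a, ?_⟩
    rw [hh0, MonoidHom.comp_apply, hι0, U.twist_embSU 0 (by norm_num) τ d hd ![d 0, d 1] he 1 one_ne_zero
      (fun k => by fin_cases k <;> simp), ha, embSU_embSU 0 (by norm_num) 0 (by norm_num) (by norm_num) U]
  have hcM : ∀ a b : SU 2 F 3, h1 (ι1 a) * embSU 0 (by norm_num) U b = embSU 0 (by norm_num) U b * h1 (ι1 a) := by
    intro a b
    obtain ⟨b', hb'⟩ := hsurj b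
    rw [← hb']
    have : (Subgroup.centralizer {h0 (ι0 b')}).comap (h1.comp ι1) = ⊤ := U.gen_cubes hF _ fun a ha => by
      refine Subgroup.mem_centralizer_singleton_iff.2 ?_
      exact C''.comm_cube (z := h1 (ι1 a)) (w := h0 (ι0 b')) (by rw [hgh, hgh0]; exact (hcomm b' a).symm)
        (by rw [← map_pow, ← map_pow, ha, map_one, map_one])
    exact Subgroup.mem_centralizer_singleton_iff.1
      (this ▸ Subgroup.mem_top a : a ∈ (Subgroup.centralizer {h0 (ι0 b')}).comap (h1.comp ι1))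
  have x0 : act (embSU (N := 4) 0 (by norm_num) U (U.su2 i 0 hx)) (ev F 4 0) = i • ev F 4 0 := by
    rw [U.su2_act_ev0]; simp
  have x1 : act (embSU (N := 4) 0 (by norm_num) U (U.su2 i 0 hx)) (ev F 4 1) = (-i) • ev F 4 1 := by
    rw [show ev F 4 1 = ev F 4 (0 + 1) from rfl, U.su2_act_ev1]; simp [hσi]
  have hM : ∀ a, act (h1 (ι1 a)) (ev F 4 0) = ev F 4 0 ∧ act (h1 (ι1 a)) (ev F 4 1) = ev F 4 1 := by
    have hfix : (Fx F 3 4 (ev F 4 0)).comap (h1.comp ι1) = ⊤ := U.gen_cubes hF _ fun a ha => by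
      set M := h1 (ι1 a) with hM
      set w := act M (ev F 4 0) with hw
      set X := embSU (N := 4) 0 (by norm_num) U (U.su2 i 0 hx) with hX
      have hXw : act X w = i • w := by
        rw [hw, ← act_mul, ← hcM a, act_mul, x0, act_smul]
      have hi0 : i ≠ 0 := fun e => by rw [e, mul_zero] at hi; exact neg_ne_zero.2 one_ne_zero hi.symm
      have k1 : w ⟨1, by norm_num⟩ = 0 := by
        have h := hf_act X w (ev F 4 1)
        rw [hXw, x1, U.smul_l, U.smul_r, map_neg, hσi, U.ev_r _ (by norm_num : 1 < 4)] at h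
        exact (mul_eq_zero.1 (show (2 : F) * w ⟨1, by norm_num⟩ = 0 by
          linear_combination -h + (w ⟨1, by norm_num⟩) * hi)).resolve_left (two_ne hF)
      have k23 : ∀ r (hr : r < 4), 2 ≤ r → w ⟨r, hr⟩ = 0 := by
        intro r hr hr2
        have h := hf_act X w (ev F 4 r)
        rw [hXw, embSU_mem (N := 4) (m := 2) 0 (by norm_num) U _ r hr (Or.inr (by omega)), U.smul_l,
          U.ev_r _ hr] at h
        have : i ≠ 1 := fun e => by rw [e, one_mul] at hi; exact neg_one_ne_one hF hi.symm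
        exact (mul_eq_zero.1 (show (i - 1) * w ⟨r, hr⟩ = 0 by linear_combination h)).resolve_left
          (sub_ne_zero.2 this)
      have hwc : w = w ⟨0, by norm_num⟩ • ev F 4 0 := by
        funext r
        fin_cases r
        · simp [ev]
        · simpa [ev] using k1
        · simpa [ev] using k23 2 (by norm_num) le_rfl
        · simpa [ev] using k23 3 (by norm_num) (by norm_num)
      set c := w ⟨0, by norm_num⟩
      have e3 : act (M ^ 3) (ev F 4 0) = (c ^ 3) • ev F 4 0 := by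
        simp only [pow_succ, pow_zero, one_mul, act_mul, ← hw, hwc, act_smul, smul_smul, mul_assoc]
      rw [hM, ← map_pow, ← map_pow, ha, map_one, map_one, act_one] at e3
      have hev : ev F 4 0 ≠ 0 := fun e => by simpa [ev] using congrFun e ⟨0, by norm_num⟩
      show act M (ev F 4 0) = ev F 4 0
      rw [← hw, hwc, eq_one_of_cube hF (smul_left_injective F hev (by simpa using e3.symm) : c ^ 3 = 1),
        one_smul]
    intro a
    have e0 : act (h1 (ι1 a)) (ev F 4 0) = ev F 4 0 :=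
      (hfix ▸ Subgroup.mem_top a : a ∈ (Fx F 3 4 (ev F 4 0)).comap (h1.comp ι1))
    refine ⟨e0, ?_⟩
    have hy1 : act (embSU (N := 4) 0 (by norm_num) U (U.su2 0 1 hy)) (ev F 4 0) = ev F 4 1 := by
      rw [U.su2_act_ev0]; simp
    rw [← hy1, ← act_mul, hcM a, act_mul, e0]
  have hfix0 : ∀ a, act (h1 a) (ev F 4 0) = ev F 4 0 := by
    have : (Fx F 3 4 (ev F 4 0)).comap h1 = ⊤ := by
      refine U.blocks_gen (U.exists_alpha_three hF) _ (fun a => ?_) (fun a => (hM a).1)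
      show act (h1 (ι0 a)) (ev F 4 0) = ev F 4 0
      rw [hmid, hh0, MonoidHom.comp_apply, hι1,
        U.twist_embSU 1 (by norm_num) τ d hd ![d 1, d 2] (fun k => by fin_cases k <;> simp [hd]) 1 one_ne_zero
          (fun k => by fin_cases k <;> simp),
        embSU_embSU 0 (by norm_num) 1 (by norm_num) (by norm_num) U]
      exact embSU_mem (N := 4) (m := 2) (0 + 1) (by norm_num) U _ 0 (by norm_num) (by omega)
    intro a; exact (this ▸ Subgroup.mem_top a : a ∈ (Fx F 3 4 (ev F 4 0)).comap h1)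
  have hb : ∀ a, ∃ b : SU 3 F 3, embSU 1 (by norm_num) U b = h1 a := fun a =>
    mem_range_embSU 1 (by norm_num) U (m := 3) (fun k hk hk' => by
      obtain rfl : k = 0 := by omega
      exact hfix0 a)
  choose β eβ using hb
  have iE : Function.Injective (embSU (F := F) (q := 3) (N := 4) (m := 3) 1 (by norm_num) U) :=
    embSU_injective _ _ U
  let βh : SU 3 F 3 →* SU 3 F 3 := MonoidHom.mk' β fun a b => iE (by rw [map_mul, eβ, eβ, eβ, map_mul])
  have h1i : Function.Injective h1 := fun a b e => C'.inj (by rw [← hgh, ← hgh, e])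
  have hβi : Function.Injective βh := fun a b e => h1i (by
    rw [← eβ, ← eβ]; exact congrArg _ e)
  obtain ⟨τ', d', hd', hβd⟩ := U.exists_twist hF βh hβi
    (fun a => U.emb_fix (N := 4) (m := 3) 1 (by norm_num) (k := 2) (by norm_num) (by
      show act (embSU _ _ U (β _)) _ = _
      rw [eβ, hmid, hh0, MonoidHom.comp_apply]
      exact embSU_mem (N := 4) (m := 3) 0 (by norm_num) U _ 3 (by norm_num) (by omega)))
    (fun a => U.emb_fix (N := 4) (m := 3) 1 (by norm_num) (k := 0) (by norm_num) (by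
      show act (embSU _ _ U (β _)) _ = _
      rw [eβ]; exact (hM a).2))
  have hd0 : ∀ k, d k ≠ 0 := fun k e => by simpa [e, nm] using hd k
  have hd0' : ∀ k, d' k ≠ 0 := fun k e => by simpa [e, nm] using hd' k
  have hs : ∀ (a b : F), U.nm a + U.nm b = 1 → τ' a = τ a ∧ d' 1 / d' 0 * τ' b = d 2 / d 1 * τ b := by
    intro a b hab
    have e := hmid (U.su2 a b hab)
    rw [← eβ, show β (ι0 (U.su2 a b hab)) = twist U τ' d' hd' (ι0 (U.su2 a b hab)) from hβd _, hh0,
      MonoidHom.comp_apply, hι1, hι0,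
      U.twist_embSU 1 (by norm_num) τ d hd ![d 1, d 2] (fun k => by fin_cases k <;> simp [hd]) 1 one_ne_zero
        (fun k => by fin_cases k <;> simp),
      U.twist_embSU 0 (by norm_num) τ' d' hd' ![d' 0, d' 1] (fun k => by fin_cases k <;> simp [hd']) 1 one_ne_zero
        (fun k => by fin_cases k <;> simp),
      embSU_embSU 1 (by norm_num) 0 (by norm_num) (by norm_num) U,
      embSU_embSU 0 (by norm_num) 1 (by norm_num) (by norm_num) U] at e
    have hτn : ∀ (τ : F ≃+* F) x, U.nm (τ x) = τ (U.nm x) := fun τ x => by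
      simp only [nm, U.hσ, ← map_pow, ← map_mul]
    rw [U.twist_su2 τ' _ _ a b hab (by simp [U.nm_mul, U.nm_div, hd', hτn, ← map_add, hab]),
      U.twist_su2 τ _ _ a b hab (by simp [U.nm_mul, U.nm_div, hd, hτn, ← map_add, hab])] at e
    simpa using U.su2_inj (embSU_injective (N := 4) (m := 2) 1 (by norm_num) U e)
  have hτ : τ' = τ := U.aut_ext hF hi hσi τ' τ (hs i 0 hx).1
  have hratio : d' 1 / d' 0 = d 2 / d 1 := by simpa [hτ] using (hs 0 1 hy).2
  subst hτ
  set c := d 1 / d' 0 with hc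
  let D : Fin 4 → F := ![d 0, d 1, d 2, c * d' 2]
  have hD : ∀ k, U.nm (D k) = 1 := fun k => by
    fin_cases k <;> simp [D, c, U.nm_mul, U.nm_div, hd, hd']
  have hc0 : c ≠ 0 := div_ne_zero (hd0 1) (hd0' 0)
  refine ⟨g'.comp (twist U τ' D hD), fun a => ?_, fun a => ?_⟩
  · rw [MonoidHom.comp_apply, U.twist_embSU 0 (by norm_num) τ' D hD d hd 1 one_ne_zero
      (fun k => by fin_cases k <;> simp [D])]
    exact hgψ a
  · have hr : c * d' 1 = d 2 := by
      rw [hc, div_mul_eq_mul_div, mul_comm, mul_div_right_comm, hratio, div_mul_cancel₀ _ (hd0 1)]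
    have hr0 : c * d' 0 = d 1 := by rw [hc, div_mul_cancel₀ _ (hd0' 0)]
    rw [MonoidHom.comp_apply, U.twist_embSU 1 (by norm_num) τ' D hD d' hd' c hc0
      (fun k => by fin_cases k <;> simp [D, hr, hr0]), ← hβd, show βh a = β a from rfl, eβ, hgh]

end UF

end CfsgLib.Chev.CT.Phan
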