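/-
Independence of the middle vector and the completion over nine elements.
-/
import Cfsg.Agent.Lib.Chev.CT.Phan.Three.Base

set_option autoImplicit false

namespace CfsgLib.Chev.CT.Phan

open Matrix Cfsg

universe u v

variable {F : Type u} [Field F] [Fintype F] {N : ℕ} {G : Type v} [Group G]

namespace Dat

variable {U : UF F 3} {D : Dat U N G} {k : ℕ}

theorem Step.indep_three (S : D.Step k) (hF : Fintype.card F = 9) (hN : k + 5 ≤ N) {w w' c : Fin N → F}
    (hw : Win (k + 1) N w) (hw1 : hf 3 w w = 1) (hw' : Win (k + 1) N w') (hw1' : hf 3 w' w' = 1)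
    (hc : Un U k c) (hcw : hf 3 c w = 0) (hcw' : hf 3 c w' = 0) :
    D.R k (D.nb k (D.nb k 1 w) c) (D.nb k (D.nb k 1 w') c) := by
  have h3 := UF.three_eq_zero hF
  by_cases hd : U.nm (c ⟨k, S.lt0⟩) ≠ 1 ∨ c = c ⟨k, S.lt0⟩ • ev F N k
  · exact S.indep_one hw hw1 hw' hw1' hc hcw hcw' hd
  by_cases hφ : U.nm (hf 3 w' w) ≠ 1
  · exact S.indep_swap hw hw1 hw' hw1' hc hcw hcw' hφ
  push Not at hd hφ
  set l := c ⟨k, S.lt0⟩ with hldef
  set r := c - l • ev F N k with hr
  have hrw : Win (k + 1) N r := hc.1.split S.lt0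
  have hcr : ∀ {x : Fin N → F}, Win (k + 1) N x → hf 3 r x = hf 3 c x := fun {x} hx => by
    rw [hr, U.sub_l, U.smul_l, U.swap_eq_zero (S.perp_succ hx), mul_zero, sub_zero]
  -- a unit vector orthogonal to `w` and `r`
  obtain ⟨j, hj, ej⟩ := S.S1.trans w hw hw1
  obtain ⟨e', he', he1', hre'⟩ := U.exists_perp (k := k + 1 + 1) (by omega) (act j.1⁻¹ r)
  set e := act j.1 e' with he
  have hjK : j.1 ∈ FB F 3 N (k + 1) N := D.Gam_fb hj
  have heW : Win (k + 1) N e := U.Win_act hjK (he'.mono (by omega) le_rfl)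
  have he1 : hf 3 e e = 1 := by rw [he, hf_act]; exact he1'
  have hew : hf 3 e w = 0 := by
    rw [he, ← ej, hf_act, U.ev_r _ S.lt1]; exact he' _ (Or.inl (by simp))
  have her : hf 3 e r = 0 := by
    rw [he, ← act_act_inv j.1 r, hf_act]; exact U.swap_eq_zero hre'
  suffices ∃ u, Win (k + 1) N u ∧ hf 3 u u = 1 ∧ hf 3 u w = 0 ∧ hf 3 u r = 0 ∧ U.nm (hf 3 u w') ≠ 1 by
    obtain ⟨u, huW, hu1, huw, hur, huw'⟩ := this
    have hcu : hf 3 c u = 0 := by rw [← hcr huW]; exact U.swap_eq_zero hur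
    refine (S.indep_swap hw hw1 huW hu1 hc hcw hcu (by rw [huw, U.nm_zero]; exact zero_ne_one)).trans
      (S.indep_swap huW hu1 hw' hw1' hc hcu hcw' ?_)
    rw [← U.swap, U.nm_sigma]; exact huw'
  by_cases hne : U.nm (hf 3 e w') ≠ 1
  · exact ⟨e, heW, he1, hew, her, hne⟩
  push Not at hne
  set φ := hf 3 w' w with hφd
  set ε := hf 3 w' e with hεd
  set ρ := w' - φ • w - ε • e with hρ
  have hρW : Win (k + 1) N ρ := (hw'.sub (hw.smul _)).sub (heW.smul _)
  have hεn : U.nm ε = 1 := by rw [hεd, ← U.swap, U.nm_sigma]; exact hne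
  have hwe : hf 3 w e = 0 := U.swap_eq_zero hew
  have ρw : hf 3 ρ w = 0 := by simp only [hρ, U.sub_l, U.smul_l, hw1, hew, ← hφd]; ring
  have ρe : hf 3 ρ e = 0 := by simp only [hρ, U.sub_l, U.smul_l, he1, hwe, ← hεd]; ring
  have ρr : hf 3 ρ r = 0 := by
    simp only [hρ, U.sub_l, U.smul_l, her]
    rw [U.swap_eq_zero ((hcr hw).trans hcw), U.swap_eq_zero ((hcr hw').trans hcw')]; ring
  have ρw' : hf 3 ρ w' = -1 := by
    have a : hf 3 w w' = U.σ φ := (U.swap w' w).symm
    have b : hf 3 e w' = U.σ ε := (U.swap w' e).symm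
    simp only [hρ, U.sub_l, U.smul_l, hw1', a, b]
    simp only [UF.nm] at hφ hεn
    linear_combination -hφ - hεn
  have ρρ : hf 3 ρ ρ = -1 := by
    nth_rw 2 [hρ]
    rw [U.sub_r, U.sub_r, U.smul_r, U.smul_r, ρw, ρe, ρw']; ring
  obtain ⟨m, hm, hu⟩ := U.exists_unit_smul (x := ρ) (by rw [ρρ]; exact neg_ne_zero.2 one_ne_zero)
  obtain ⟨a, ha⟩ := U.exists_sqrt (c := (-1 : F)) (by simp)
  have hmm : m * U.σ m = -1 := by
    rw [U.smul_l, U.smul_r, ρρ] at hu; linear_combination -hu
  have hew' : hf 3 e w' = U.σ ε := (U.swap w' e).symm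
  set X := a * U.σ ε * U.σ (a * m * -1)
  obtain ⟨s, hs, hs'⟩ : ∃ s : F, (s = 1 ∨ s = -1) ∧ s * (X + U.σ X) ≠ 1 := by
    by_cases h : X + U.σ X = 1
    · exact ⟨-1, Or.inr rfl, by rw [h, mul_one]; exact UF.neg_one_ne_one hF⟩
    · exact ⟨1, Or.inl rfl, by rw [one_mul]; exact h⟩
  have hσs : U.σ s = s := by rcases hs with rfl | rfl <;> simp
  have hss : s * s = 1 := by rcases hs with rfl | rfl <;> simp
  refine ⟨a • e + (s * a) • (m • ρ), (heW.smul a).add ((hρW.smul m).smul _), ?_, ?_, ?_, ?_⟩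
  · simp only [U.add_l, U.add_r, U.smul_l, U.smul_r, he1, ρe, U.swap_eq_zero ρe, ρρ, map_mul, hσs]
    simp only [UF.nm] at ha
    linear_combination (1 - s * s * (m * U.σ m)) * ha + (s * s) * hmm - hss - h3
  · simp only [U.add_l, U.smul_l, hew, ρw]; ring
  · simp only [U.add_l, U.smul_l, her, ρr]; ring
  · have hval : U.nm (hf 3 (a • e + (s * a) • (m • ρ)) w') = s * (X + U.σ X) := by
      simp only [U.add_l, U.smul_l, hew', ρw', UF.nm, map_add, map_mul, hσs, map_neg, map_one, U.hσσ, X]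
      simp only [UF.nm] at ha hεn
      linear_combination (a * U.σ a) * hεn + (s * s * (a * U.σ a)) * hmm + (-(a * U.σ a)) * hss
    rw [hval]; exact hs'

theorem state_three_field (D : Dat U N G) (hF : Fintype.card F = 9)
    (hext : ∀ l, l + 4 ≤ N → ∃ f : SU 4 F 3 →* G, (∀ A, f (embSU 0 (by norm_num) U A) = D.ψ l A) ∧
      ∀ A, f (embSU 1 (by norm_num) U A) = D.ψ (l + 1) A) :
    ∀ d k : ℕ, k + 2 + d = N → D.St k := by
  intro d
  induction d using Nat.strong_induction_on with
  | _ d ih =>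
    intro k hk
    match d, ih, hk with
    | 0, _, hk => exact D.state_two (by omega)
    | 1, _, hk => exact D.state_three (U.exists_alpha_three hF) (by omega)
    | d + 2, ih, hk =>
      have S : D.Step k := D.step_of_alpha (U.exists_alpha_three hF) (by omega)
        (ih (d + 1) (by omega) (k + 1) (by omega)) (ih d (by omega) (k + 2) (by omega))
      by_cases h5 : k + 5 ≤ N
      · exact S.state ⟨Or.inl (U.exists_alpha_three hF),
          fun hw hw1 hw' hw1' hc hcw hcw' => S.indep_three hF h5 hw hw1 hw' hw1' hc hcw hcw'⟩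
      obtain ⟨f, hf0, hf1⟩ := hext k (by omega)
      have hk4 : k + 4 ≤ N := by omega
      refine ⟨fun z hz e => ?_, fun g hg => onto_of_trans S.lt0 S.S1 (fun _ a b => S.trans_top a b) hg,
        fun v hv h1 => S.trans_top hv h1⟩
      have hle : D.Gam k ≤ ((embSU k hk4 U).prod f).range := by
        refine D.Gam_le_of_LS (U.exists_alpha_three hF) fun i hi z hz => ?_
        by_cases hiN : i + 2 ≤ N
        · obtain ⟨A, rfl⟩ := (D.mem_LS hiN).1 hz
          obtain rfl | rfl | rfl : i = k ∨ i = k + 1 ∨ i = k + 2 := by omega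
          · refine ⟨embSU 0 (by norm_num) U (embSU (N := 3) 0 (by norm_num) U A), Prod.ext ?_ ?_⟩
            · show embSU i hk4 U _ = _
              rw [embSU_embSU 0 (by norm_num) 0 (by norm_num) (by norm_num) U,
                embSU_embSU i hk4 (0 + 0) (by norm_num) (by omega) U]
              rfl
            · show f _ = _
              rw [hf0, D.h0 i (by omega)]
          · refine ⟨embSU 0 (by norm_num) U (embSU (N := 3) 1 (by norm_num) U A), Prod.ext ?_ ?_⟩
            · show embSU k hk4 U _ = _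
              rw [embSU_embSU 0 (by norm_num) 1 (by norm_num) (by norm_num) U,
                embSU_embSU k hk4 (0 + 1) (by norm_num) (by omega) U]
            · show f _ = _
              rw [hf0, D.h1 k (by omega)]
          · refine ⟨embSU 1 (by norm_num) U (embSU (N := 3) 1 (by norm_num) U A), Prod.ext ?_ ?_⟩
            · show embSU k hk4 U _ = _
              rw [embSU_embSU 1 (by norm_num) 1 (by norm_num) (by norm_num) U,
                embSU_embSU k hk4 (1 + 1) (by norm_num) (by omega) U]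
            · show f _ = _
              rw [hf1, D.h1 (k + 1) (by omega)]
        · rw [D.LS_eq_bot hiN, Subgroup.mem_bot] at hz
          subst hz
          exact one_mem _
      obtain ⟨A, rfl⟩ := hle hz
      have : A = 1 := embSU_injective k hk4 U (e.trans (map_one _).symm)
      rw [this, map_one]

end Dat

end CfsgLib.Chev.CT.Phan
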