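/-
Weak Phan systems over the field with nine elements.
-/
import Cfsg.Agent.Lib.Chev.CT.Phan.Three.Frame
import Cfsg.Agent.Lib.Chev.CT.Phan.Three.Induct
import Cfsg.Agent.Lib.Classical.UnitaryPSU
import Cfsg.Agent.Lib.Chev.CT.Phan.Weak

set_option autoImplicit false

namespace CfsgLib.Chev.CT.Phan

open Matrix Cfsg

universe u v

variable {F : Type u} [Field F] [Fintype F] {G : Type v} [Group G]

/-- The kernel of a homomorphism of `SU 4` with non-commutative image is scalar. -/
theorem ker_isSc (hF : Fintype.card F = 9) (g : SU 4 F 3 →* G) (hna : ∃ a b, g a * g b ≠ g b * g a) :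
    ∀ z, g z = 1 → IsSc z := by
  haveI : IsSimpleGroup (PSU 4 F 3) :=
    CfsgLib.Classical.Unitary.isSimpleGroup_PSU (by rw [hF]; norm_num) (by norm_num) (by norm_num)
  set π := QuotientGroup.mk' (Subgroup.center (SU 4 F 3))
  have hn : (g.ker.map π).Normal := Subgroup.Normal.map inferInstance π (QuotientGroup.mk'_surjective _)
  rcases hn.eq_bot_or_eq_top with h | h
  · intro z hz
    have : π z ∈ (g.ker.map π) := Subgroup.mem_map_of_mem π hz
    rw [h, Subgroup.mem_bot] at this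
    exact UF.isSc_of_center hF ((QuotientGroup.eq_one_iff _).1 this)
  · exfalso
    obtain ⟨a, b, hab⟩ := hna
    have hcen : ∀ z, ∀ w, g z * g w = g w * g z := fun z w => by
      obtain ⟨k, hk, ek⟩ : π z ∈ g.ker.map π := h ▸ Subgroup.mem_top _
      have hc : k⁻¹ * z ∈ Subgroup.center (SU 4 F 3) := QuotientGroup.eq.1 ek
      have e : g z = g (k⁻¹ * z) := by rw [map_mul, map_inv, MonoidHom.mem_ker.1 hk, inv_one, one_mul]
      rw [e, ← map_mul, ← map_mul, Subgroup.mem_center_iff.1 hc w]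
    exact hab (hcen a b)

/-- The completion over nine elements, with indices in the natural numbers. -/
theorem weak_phan_three (hF : Fintype.card F = 9) {N : ℕ} (hN : 5 ≤ N)
    (A : ℕ → Subgroup G) (V : ℕ → Subgroup G)
    (hV : ∀ i, i + 3 ≤ N → IsStandardUnitaryPair (V i) (A i) (A (i + 1)) F 3)
    (hW : ∀ i, i + 4 ≤ N → ∃ g : SU 4 F 3 →* G, V i ⊔ V (i + 1) ≤ g.range)
    (hcomm : ∀ i j, i + 2 ≤ j → j + 2 ≤ N → ∀ x ∈ A i, ∀ y ∈ A j, x * y = y * x) :
    ∃ f : SU N F 3 →* G, (∀ i, i + 2 ≤ N → A i ≤ f.range) ∧ ∀ i, i + 3 ≤ N → V i ≤ f.range := by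
  obtain ⟨U⟩ := UF.of_card (F := F) (q := 3) (by rw [hF]; norm_num)
  obtain ⟨c, h1, h2⟩ := exists_charts_of U (U.aut_torus_three hF) A V (N := N) (fun i hi => U.exists_chart (hV i hi))
    (fun i hi => hcomm i (i + 2) le_rfl (by omega)) N
  have hc : ∀ i, i + 3 ≤ N → IsChart (c i) (A i) (A (i + 1)) (V i) := fun i hi => h1 i (by omega) hi
  have hz := U.center_three hF
  have hinj : ∀ i, i + 3 ≤ N → Function.Injective (c i) := fun i hi => by
    rw [injective_iff_map_eq_one]
    intro a ha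
    exact hz a fun b => ((Subgroup.mem_center_iff.1 ((hc i hi).ker (MonoidHom.mem_ker.2 ha))) b).symm
  have hext : ∀ l, l + 4 ≤ N → ∃ f : SU 4 F 3 →* G, (∀ B, f (embSU 0 (by norm_num) U B) = c l B) ∧
      ∀ B, f (embSU 1 (by norm_num) U B) = c (l + 1) B := by
    intro l hl
    obtain ⟨g, hg⟩ := hW l hl
    have hna : ∃ a b, g a * g b ≠ g b * g a := by
      by_contra hne
      push Not at hne
      obtain ⟨i, hi, hσi, hni⟩ := U.exists_sq_neg_one
      have hx : U.nm i + U.nm 0 = 1 := by rw [hni, U.nm_zero, add_zero]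
      set x : SU 3 F 3 := embSU 0 (by norm_num) U (U.su2 i 0 hx) with hxd
      obtain ⟨z, hz'⟩ := hg (Subgroup.mem_sup_left ((hc l (by omega)).range ▸ ⟨x, rfl⟩ : c l x ∈ V l))
      have hx1 : x = 1 := hz x fun b => hinj l (by omega) (by
        obtain ⟨w, hw⟩ := hg (Subgroup.mem_sup_left ((hc l (by omega)).range ▸ ⟨b, rfl⟩ : c l b ∈ V l))
        rw [map_mul, map_mul, ← hz', ← hw, hne z w])
      have e := congrArg (fun g => act g (ev F 3 0)) hx1
      rw [hxd] at e
      simp only [U.su2_act_ev0, act_one] at e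
      have e' := congrFun e ⟨0, by norm_num⟩
      simp [ev] at e'
      exact UF.neg_one_ne_one hF (by rw [← hi, e', one_mul])
    have hK := ker_isSc hF g hna
    have mk : ∀ m, (m = l ∨ m = l + 1) → Cov g (c m) := fun m hm =>
      ⟨hK, hinj m (by omega), fun a => hg (by
        rcases hm with rfl | rfl
        · exact Subgroup.mem_sup_left ((hc m (by omega)).range ▸ ⟨a, rfl⟩)
        · exact Subgroup.mem_sup_right ((hc (l + 1) (by omega)).range ▸ ⟨a, rfl⟩)), hz⟩
    refine U.exists_window hF (mk l (Or.inl rfl)) (mk (l + 1) (Or.inr rfl))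
      (fun a => h2 l (by omega) hl a) (fun a b => hcomm l (l + 2) le_rfl (by omega) _ ?_ _ ?_)
    · rw [← (hc l (by omega)).range_left U]; exact ⟨a, rfl⟩
    · rw [← (hc (l + 1) (by omega)).range_right U]; exact ⟨b, rfl⟩
  let φ : ℕ → (SU 2 F 3 →* G) := fun l =>
    if l + 3 ≤ N then (c l).comp (embSU 0 (by norm_num) U) else (c (l - 1)).comp (embSU 1 (by norm_num) U)
  have hφ : ∀ l, l + 2 ≤ N → (φ l).range = A l := by
    intro l hl
    by_cases h : l + 3 ≤ N
    · simp only [φ, if_pos h]; exact (hc l h).range_left U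
    · simp only [φ, if_neg h]
      have := (hc (l - 1) (by omega)).range_right U
      rwa [show l - 1 + 1 = l by omega] at this
  let D : Dat U N G :=
    { φ := φ
      ψ := c
      h0 := fun l h a => by simp [φ, h]
      h1 := fun l h a => by
        by_cases h4 : l + 1 + 3 ≤ N
        · simp only [φ, if_pos h4, MonoidHom.comp_apply]; exact (h2 l (by omega) (by omega) a).symm
        · simp [φ, h4]
      hcomm := fun i j hij hj a b => hcomm i j hij hj _ (by rw [← hφ i (by omega)]; exact ⟨a, rfl⟩) _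
        (by rw [← hφ j hj]; exact ⟨b, rfl⟩) }
  obtain ⟨f, hf, hf'⟩ := D.exists_hom_of_St
    (D.state_three_field hF hext (N - 2) 0 (by omega))
  refine ⟨f, fun i hi => ?_, fun i hi => ?_⟩
  · rw [← hφ i hi]
    rintro _ ⟨a, rfl⟩
    exact ⟨_, hf i hi a⟩
  · rw [← (hc i hi).range]
    rintro _ ⟨a, rfl⟩
    exact ⟨_, hf' i hi a⟩

/-- Weak Phan systems over nine elements, indexed as in the recognition statement. -/
theorem weak_phan_three_fin (hF : Fintype.card F = 9) {n : ℕ} (hn : 4 ≤ n)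
    (U : Fin n → Subgroup G) (V : Fin n → Fin n → Subgroup G)
    (h1 : ∀ i j : Fin n, (i : ℕ) + 2 ≤ j → ∀ x ∈ U i, ∀ y ∈ U j, x * y = y * x)
    (h2 : ∀ i j : Fin n, (i : ℕ) + 1 = j → Cfsg.IsStandardUnitaryPair (V i j) (U i) (U j) F 3)
    (hgen : (⨆ i, U i) ⊔ (⨆ (i : Fin n) (j : Fin n) (_ : (i : ℕ) + 1 = j), V i j) = ⊤)
    (h4 : ∀ i j k : Fin n, (i : ℕ) + 1 = j → (j : ℕ) + 1 = k →
      ∃ g : ↥(Cfsg.SU 4 F 3) →* ↥(V i j ⊔ V j k), Function.Surjective g) :
    ∃ f : ↥(Cfsg.SU (n + 1) F 3) →* G, Function.Surjective f := by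
  let A : ℕ → Subgroup G := fun l => if h : l < n then U ⟨l, h⟩ else ⊥
  let W : ℕ → Subgroup G := fun l => if h : l + 1 < n then V ⟨l, by omega⟩ ⟨l + 1, h⟩ else ⊥
  obtain ⟨f, hA, hW⟩ := weak_phan_three (G := G) hF (N := n + 1) (by omega) A W
    (fun i hi => by
      simp only [A, W, dif_pos (show i < n by omega), dif_pos (show i + 1 < n by omega)]
      exact h2 _ _ rfl)
    (fun i hi => by
      obtain ⟨g, hg⟩ := h4 ⟨i, by omega⟩ ⟨i + 1, by omega⟩ ⟨i + 1 + 1, by omega⟩ rfl rfl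
      refine ⟨(Subgroup.subtype _).comp g, ?_⟩
      simp only [W, dif_pos (show i + 1 < n by omega), dif_pos (show i + 1 + 1 < n by omega)]
      rw [MonoidHom.range_comp, MonoidHom.range_eq_top.2 hg, ← MonoidHom.range_eq_map, Subgroup.range_subtype])
    (fun i j hij hj => by
      simp only [A, dif_pos (show i < n by omega), dif_pos (show j < n by omega)]
      exact h1 _ _ hij)
  refine ⟨f, MonoidHom.range_eq_top.1 (top_le_iff.1 (hgen.ge.trans (sup_le (iSup_le fun i => ?_)
    (iSup_le fun i => iSup_le fun j => iSup_le fun h => ?_))))⟩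
  · have := hA i (by omega)
    simpa [A, i.isLt] using this
  · have hlt : (i : ℕ) + 1 < n := h ▸ j.isLt
    have := hW i (by omega)
    simp only [W, dif_pos hlt] at this
    have hj : (⟨(i : ℕ) + 1, hlt⟩ : Fin n) = j := Fin.ext h
    rwa [hj] at this

end CfsgLib.Chev.CT.Phan
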